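import Cfsg.Agent.H86.BaseThree.Layer
import Cfsg.Agent.H52.RegPair.Pairing

/-!
The commutator pairing of a layer and the double centraliser property it gives.
-/

set_option autoImplicit false
set_option linter.unusedSectionVars false
set_option linter.style.haveILetI false

namespace Cfsg.Agent.H86.BaseThree

open Cfsg.Agent.H52.RegPair

universe u

variable {K : Type u} [Field K] [Finite K] {W : Type u} [CommGroup W] [Finite W]
  {b : W →* W →* Kˣ}

theorem card_hom_le (Q : Type u) [CommGroup Q] [Finite Q] :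
    Finite (Q →* Kˣ) ∧ Nat.card (Q →* Kˣ) ≤ Nat.card Q := by
  haveI := Fintype.ofFinite Q
  have hli : LinearIndependent K (fun f : Q →* Kˣ => fun w => ((f w : Kˣ) : K)) :=
    (linearIndependent_monoidHom Q K).comp (fun f : Q →* Kˣ => (Units.coeHom K).comp f)
      fun f g h => MonoidHom.ext fun w => Units.ext (DFunLike.congr_fun h w)
  haveI : Finite (Q →* Kˣ) := hli.finite
  haveI := Fintype.ofFinite (Q →* Kˣ)
  refine ⟨inferInstance, ?_⟩
  rw [Nat.card_eq_fintype_card, Nat.card_eq_fintype_card]
  exact hli.fintype_card_le_finrank.trans_eq (Module.finrank_fintype_fun_eq_card K)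

/-- The orthogonal of the orthogonal. -/
theorem perp_perp_eq (hb : AltPair b) (S : Subgroup W) : perp b (perp b S) = S := by
  have hcard : ∀ S : Subgroup W, Nat.card S * Nat.card (perp b S) = Nat.card W := by
    intro S
    haveI := (card_hom_le (K := K) W).1
    let res : W →* (S →* Kˣ) :=
      ((MonoidHom.compHom' S.subtype : (W →* Kˣ) →* (S →* Kˣ))).comp b
    have hker : res.ker = perp b S := by
      ext x
      exact ⟨fun h s hs => DFunLike.congr_fun h ⟨s, hs⟩,
        fun h => MonoidHom.ext fun s => h s s.2⟩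
    have hrange : Nat.card res.range ≤ Nat.card S := by
      obtain ⟨hf, hle⟩ := card_hom_le (K := K) S
      exact le_trans (Nat.card_le_card_of_injective _ Subtype.val_injective) hle
    have hperp : Nat.card (perp b S) ≤ S.index := by
      obtain ⟨hf, hle⟩ := card_hom_le (K := K) (W ⧸ S)
      let f : perp b S → ((W ⧸ S) →* Kˣ) := fun x =>
        QuotientGroup.lift S (b x) (fun s hs => x.2 s hs)
      have hinj : Function.Injective f := by
        intro x y h
        refine Subtype.ext (mul_inv_eq_one.1 (hb.nondeg _ fun w => ?_))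
        have hw : b x w = b y w := DFunLike.congr_fun h (QuotientGroup.mk w)
        rw [map_mul, map_inv, MonoidHom.mul_apply, MonoidHom.inv_apply, hw, mul_inv_cancel]
      exact (Nat.card_le_card_of_injective f hinj).trans hle
    have h1 := res.ker.card_mul_index
    rw [Subgroup.index_ker, hker] at h1
    have h2 := S.card_mul_index
    have h3 : Nat.card S * Nat.card (perp b S) ≤ Nat.card S * S.index := Nat.mul_le_mul_left _ hperp
    have h4 : Nat.card (perp b S) * Nat.card res.range ≤ Nat.card (perp b S) * Nat.card S :=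
      Nat.mul_le_mul_left _ hrange
    rw [mul_comm (Nat.card (perp b S)) (Nat.card S)] at h4
    omega
  have hle : S ≤ perp b (perp b S) := fun s hs x hx => hb.eq_one_symm (hx s hs)
  refine (Subgroup.eq_of_le_of_card_ge hle ?_).symm
  have h1 := hcard S
  have h2 := hcard (perp b S)
  rw [mul_comm (Nat.card S)] at h1
  exact le_of_eq (Nat.eq_of_mul_eq_mul_left Nat.card_pos (h2.trans h1.symm))

end Cfsg.Agent.H86.BaseThree

namespace Cfsg.Agent.H86.BaseThree

open Cfsg.Agent.H52.RegPair

universe u

variable {G : Type u} [Group G] [Finite G] {V : Type u} [AddCommGroup V] [DistribMulAction G V]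
  [Nontrivial V] [FaithfulSMul G V] {K : Type u} [Field K] [Finite K] [Module K V]

theorem Layer.ι_injective (L : Layer G V K) : Function.Injective L.ι := fun x y h => Subtype.ext
  (eq_of_smul_eq_smul (α := V) fun v => by rw [L.smul_ι, L.smul_ι, h])

theorem Layer.commute_U (L : Layer G V K) {u e : G} (hu : u ∈ L.U) (he : e ∈ L.E) :
    u * e = e * u :=
  eq_of_smul_eq_smul (α := V) fun v => by
    rw [mul_smul, mul_smul, L.smul_ι ⟨u, hu⟩, L.smul_ι ⟨u, hu⟩, L.linear e he]

/-- The double centraliser property inside the layer. -/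
theorem Layer.mem_of_commute_centralizer (L : Layer G V K) {A : Subgroup G} (hUA : L.U ≤ A)
    (hAE : A ≤ L.E) {z : G} (hz : z ∈ L.E)
    (h : ∀ r ∈ L.E, (∀ a ∈ A, a * r = r * a) → r * z = z * r) : z ∈ A := by
  classical
  haveI := L.E_normal
  let UE : Subgroup L.E := L.U.subgroupOf L.E
  haveI : UE.Normal := ⟨fun x hx y => by
    rw [Subgroup.mem_subgroupOf] at hx ⊢
    rw [Subgroup.coe_mul, Subgroup.coe_mul, Subgroup.coe_inv, ← L.commute_U hx y.2,
      mul_inv_cancel_right]
    exact hx⟩
  let W := L.E ⧸ UE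
  have hWmk : ∀ x : L.E, (QuotientGroup.mk x : W) = 1 ↔ (x : G) ∈ L.U := fun x =>
    (QuotientGroup.eq_one_iff x).trans Subgroup.mem_subgroupOf
  letI : CommGroup W :=
    { (inferInstance : Group W) with
      mul_comm := fun a b => by
        induction a using QuotientGroup.induction_on with
        | _ x =>
          induction b using QuotientGroup.induction_on with
          | _ y =>
            refine (QuotientGroup.eq).2 (Subgroup.mem_subgroupOf.2 ?_)
            have := L.commutator_mem _ (L.E.inv_mem y.2) _ (L.E.inv_mem x.2)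
            simpa [mul_assoc] using this }
  let c : L.E → L.E → L.U := fun x y =>
    ⟨(x : G) * y * (x : G)⁻¹ * (y : G)⁻¹, L.commutator_mem _ x.2 _ y.2⟩
  have hcu : ∀ (x y w : L.E), ((c x y : L.U) : G) * w = w * (c x y : G) := fun x y w =>
    L.commute_U (c x y).2 w.2
  let χ : L.E →* L.E →* Kˣ := MonoidHom.mk'
    (fun x => MonoidHom.mk' (fun y => L.ι (c x y)) (fun y z => by
      rw [← map_mul]
      exact congrArg L.ι (Subtype.ext (comm_right' (hcu x z y).symm))))
    (fun x x' => MonoidHom.ext fun y => by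
      show L.ι (c (x * x') y) = L.ι (c x y) * L.ι (c x' y)
      rw [mul_comm, ← map_mul]
      exact congrArg L.ι (Subtype.ext (comm_left' (hcu x' y x).symm)))
  have hχv : ∀ x y : L.E, χ x y = L.ι (c x y) := fun _ _ => rfl
  have hone : ∀ x y : L.E, (x : G) * y = y * x → c x y = 1 := fun x y e => Subtype.ext (by
    show (x : G) * y * (x : G)⁻¹ * (y : G)⁻¹ = 1
    rw [e]; group)
  let b₀ : W →* L.E →* Kˣ := QuotientGroup.lift UE χ (fun x hx =>
    MonoidHom.mem_ker.2 (MonoidHom.ext fun y => by
      rw [hχv, hone x y (L.commute_U (Subgroup.mem_subgroupOf.1 hx) y.2), map_one]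
      rfl))
  let b₁ : W →* W →* Kˣ := QuotientGroup.lift UE b₀.flip (fun y hy =>
    MonoidHom.mem_ker.2 (MonoidHom.ext fun a => by
      induction a using QuotientGroup.induction_on with
      | _ x =>
        show χ x y = 1
        rw [hχv, hone x y (L.commute_U (Subgroup.mem_subgroupOf.1 hy) x.2).symm, map_one]))
  let b : W →* W →* Kˣ := b₁.flip
  have hb : ∀ x y : L.E, b (QuotientGroup.mk x) (QuotientGroup.mk y) = L.ι (c x y) :=
    fun _ _ => rfl
  have hc1 : ∀ x y : L.E, b (QuotientGroup.mk x) (QuotientGroup.mk y) = 1 →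
      (x : G) * y = y * x := by
    intro x y h
    rw [hb, ← map_one L.ι] at h
    have h' := congrArg Subtype.val (L.ι_injective h)
    calc (x : G) * y = x * y * (x : G)⁻¹ * (y : G)⁻¹ * (y * x) := by group
      _ = y * x := by
        rw [show (x : G) * y * (x : G)⁻¹ * (y : G)⁻¹ = 1 from h', one_mul]
  have halt : AltPair b := by
    refine ⟨fun a => ?_, fun a ha => ?_⟩
    · induction a using QuotientGroup.induction_on with
      | _ x => rw [hb, hone x x rfl, map_one]
    · induction a using QuotientGroup.induction_on with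
      | _ x => exact (hWmk x).2 (L.center_le x x.2 fun y hy => hc1 x ⟨y, hy⟩ (ha _))
  let SA : Subgroup W := (A.subgroupOf L.E).map (QuotientGroup.mk' UE)
  have hzmem : (QuotientGroup.mk (⟨z, hz⟩ : L.E) : W) ∈ perp b (perp b SA) := by
    intro w hw
    induction w using QuotientGroup.induction_on with
    | _ r =>
      have hrz : (r : G) * z = z * r := h r r.2 fun a ha =>
        (hc1 r ⟨a, hAE ha⟩ (hw _ ⟨⟨a, hAE ha⟩, Subgroup.mem_subgroupOf.2 ha, rfl⟩)).symm
      rw [hb, hone _ _ hrz.symm, map_one]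
  rw [perp_perp_eq halt] at hzmem
  obtain ⟨a, ha, hae⟩ := hzmem
  rw [QuotientGroup.mk'_apply, QuotientGroup.eq, Subgroup.mem_subgroupOf] at hae
  have := A.mul_mem (Subgroup.mem_subgroupOf.1 ha) (hUA hae)
  simpa using this
where
  comm_right' {x y z : G} (h : y * (x * z * x⁻¹ * z⁻¹) = x * z * x⁻¹ * z⁻¹ * y) :
      x * (y * z) * x⁻¹ * (y * z)⁻¹ = (x * y * x⁻¹ * y⁻¹) * (x * z * x⁻¹ * z⁻¹) := by
    conv_rhs => rw [show x * z * x⁻¹ * z⁻¹ = y * (x * z * x⁻¹ * z⁻¹) * y⁻¹ by
      rw [h, mul_inv_cancel_right]]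
    group
  comm_left' {x x' y : G} (h : x * (x' * y * x'⁻¹ * y⁻¹) = x' * y * x'⁻¹ * y⁻¹ * x) :
      x * x' * y * (x * x')⁻¹ * y⁻¹ = (x' * y * x'⁻¹ * y⁻¹) * (x * y * x⁻¹ * y⁻¹) := by
    rw [← mul_assoc (x' * y * x'⁻¹ * y⁻¹), ← mul_assoc (x' * y * x'⁻¹ * y⁻¹),
      ← mul_assoc (x' * y * x'⁻¹ * y⁻¹), ← h]
    group

end Cfsg.Agent.H86.BaseThree
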