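import Cfsg.Agent.H52.RegPair.Linear

/-!
Three vectors with trivial common stabiliser for completely reducible solvable linear groups:
the statements passed between the parts of the proof.
-/

set_option autoImplicit false
set_option linter.unusedSectionVars false
set_option linter.style.haveILetI false

namespace Cfsg.Agent.H86.BaseThree

open Cfsg.Agent.H52.RegPair

universe u

/-- Five triples of vectors, each fixed only by elements acting trivially, in pairwise different
orbits. -/
def Reg5 (G V : Type*) [Group G] [AddCommGroup V] [DistribMulAction G V] : Prop :=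
  ∃ v : Fin 5 → Fin 3 → V, ∀ (i j : Fin 5) (g : G), (∀ k, g • v i k = v j k) →
    i = j ∧ ∀ x : V, g • x = x

/-- Five colourings with five colours, each fixed only by elements acting trivially, in pairwise
different orbits. -/
def Colour5 (G Ω : Type*) [Group G] [MulAction G Ω] : Prop :=
  ∃ c : Fin 5 → Ω → Fin 5, ∀ (i j : Fin 5) (g : G), (∀ ω : Ω, c j (g • ω) = c i ω) →
    i = j ∧ ∀ ω : Ω, g • ω = ω

/-- Every solvable group has five colourings of each of its finite nonempty sets. -/
def ColourAll : Prop :=
  ∀ (G : Type u) [Group G] [Finite G] (Ω : Type u) [MulAction G Ω] [Finite Ω] [Nonempty Ω],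
    Group.IsSolvable G → Colour5 G Ω

/-- The inductive hypothesis. -/
def Below (G V : Type u) [Group G] [AddCommGroup V] : Prop :=
  ∀ (H : Type u) [Group H] [Finite H] (X : Type u) [AddCommGroup X] [Finite X] [Nontrivial X]
    [DistribMulAction H X], Nat.card H + Nat.card X < Nat.card G + Nat.card V →
      Group.IsSolvable H → CR H X → Reg5 H X

/-- The step for reducible modules. -/
def ReducibleStep : Prop :=
  ∀ (G : Type u) [Group G] [Finite G] (V : Type u) [AddCommGroup V] [Finite V] [Nontrivial V]
    [DistribMulAction G V], Group.IsSolvable G → CR G V → ¬ Irr G V → Below G V → Reg5 G V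

/-- The step for imprimitive irreducible modules. -/
def ImprimStep : Prop :=
  ∀ (G : Type u) [Group G] [Finite G] (V : Type u) [AddCommGroup V] [Finite V] [Nontrivial V]
    [DistribMulAction G V], Group.IsSolvable G → Irr G V → Imprim G V → Below G V →
      ColourAll.{u} → Reg5 G V

/-- The step for primitive modules. -/
def PrimitiveStep : Prop :=
  ∀ (G : Type u) [Group G] [Finite G] (V : Type u) [AddCommGroup V] [Finite V] [Nontrivial V]
    [DistribMulAction G V] [FaithfulSMul G V], Group.IsSolvable G → Irr G V → ¬ Imprim G V →
      Reg5 G V

end Cfsg.Agent.H86.BaseThree
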