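import Cfsg.Agent.H86.BaseThree.Eigen

/-!
The eigencomponents of the stabiliser of a line, indexed by the cosets of its centraliser.
-/

set_option autoImplicit false
set_option linter.unusedSectionVars false
set_option linter.style.haveILetI false

namespace Cfsg.Agent.H86.BaseThree

universe u

variable {G : Type u} [Group G] [Finite G] {V : Type u} [AddCommGroup V] [DistribMulAction G V]
  [Finite V] [Nontrivial V] [FaithfulSMul G V] {K : Type u} [Field K] [Finite K] [Module K V]

open Classical in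
/-- The scalar of the commutator. -/
noncomputable def Layer.chi (L : Layer G V K) (a e : G) : K :=
  if h : a * e * a⁻¹ * e⁻¹ ∈ L.U then (L.ι ⟨_, h⟩ : K) else 1

variable (L : Layer G V K)

theorem Layer.chi_smul {a e : G} (ha : a ∈ L.E) (he : e ∈ L.E) (v : V) :
    a • e • v = L.chi a e • e • a • v := by
  rw [Layer.chi, dif_pos (L.commutator_mem a ha e he), ← L.smul_ι]
  simp [← mul_smul, mul_assoc]

theorem Layer.commute_of_chi_eq_one {a e : G} (ha : a ∈ L.E) (he : e ∈ L.E)
    (h : L.chi a e = 1) : a * e = e * a :=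
  eq_of_smul_eq_smul (α := V) fun v => by rw [mul_smul, mul_smul, L.chi_smul ha he, h, one_smul]

theorem Layer.chi_mul_lineCent {x : V} {a e t : G} (ha : a ∈ L.lineStab x)
    (ht : t ∈ L.lineCent x) : L.chi a (e * t) = L.chi a e := by
  have : a * (e * t) * a⁻¹ * (e * t)⁻¹ = a * e * a⁻¹ * e⁻¹ := by
    have h := L.commute_lineCent ht (Subgroup.inv_mem _ ha)
    calc a * (e * t) * a⁻¹ * (e * t)⁻¹ = a * e * (t * a⁻¹) * t⁻¹ * e⁻¹ := by group
      _ = _ := by rw [← h]; group
  unfold Layer.chi
  revert this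
  generalize a * (e * t) * a⁻¹ * (e * t)⁻¹ = p
  rintro rfl
  rfl

theorem Layer.chi_eq_of_class {x : V} {a e f : G} (ha : a ∈ L.lineStab x)
    (hc : f⁻¹ * e ∈ L.lineCent x) : L.chi a e = L.chi a f := by
  rw [← L.chi_mul_lineCent (e := f) ha hc, mul_inv_cancel_left]

theorem Layer.exists_separating {x : V} {e f : G} (he : e ∈ L.E) (hf : f ∈ L.E)
    (h : f⁻¹ * e ∉ L.lineCent x) : ∃ a ∈ L.lineStab x, L.chi a e ≠ L.chi a f := by
  by_contra hcon
  push Not at hcon
  refine h ⟨L.E.mul_mem (L.E.inv_mem hf) he, Subgroup.mem_centralizer_iff.2 fun a ha => ?_⟩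
  have hc := hcon a ha
  rw [Layer.chi, Layer.chi, dif_pos (L.commutator_mem a ha.1 e he),
    dif_pos (L.commutator_mem a ha.1 f hf)] at hc
  have hcc : a * e * a⁻¹ * e⁻¹ = a * f * a⁻¹ * f⁻¹ :=
    congrArg Subtype.val (L.ι_injective (Units.ext hc))
  calc a * (f⁻¹ * e) = (a * f * a⁻¹ * f⁻¹ * f)⁻¹ * (a * e * a⁻¹ * e⁻¹ * e) * a := by group
    _ = f⁻¹ * e * a := by rw [hcc]; group

/-- The component belonging to an element of the layer. -/
def Layer.eig (x : V) (e : G) : Submodule K V where
  carrier := {v | ∀ a ∈ L.lineStab x, ∀ k : K, a • x = k • x → a • v = (L.chi a e * k) • v}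
  zero_mem' := fun a _ k _ => by rw [smul_zero, smul_zero]
  add_mem' := fun hv hw a ha k hk => by rw [smul_add, smul_add, hv a ha k hk, hw a ha k hk]
  smul_mem' := fun l v hv a ha k hk => by
    rw [L.linear a ha.1, hv a ha k hk, smul_smul, smul_smul, mul_comm]

theorem Layer.orbit_mem_eig (x : V) {e : G} (he : e ∈ L.E) : e • x ∈ L.eig x e :=
  fun a ha k hk => by rw [L.chi_smul ha.1 he, hk, L.linear e he, smul_smul]

theorem Layer.eig_eq_of_class {x : V} {e f : G} (hc : f⁻¹ * e ∈ L.lineCent x) :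
    L.eig x e = L.eig x f := by
  ext v
  constructor
  · intro hv a ha k hk; rw [← L.chi_eq_of_class ha hc]; exact hv a ha k hk
  · intro hv a ha k hk; rw [L.chi_eq_of_class ha hc]; exact hv a ha k hk

theorem Layer.orbit_mem_eig_of_class {x : V} {e f : G} (he : e ∈ L.E)
    (hc : f⁻¹ * e ∈ L.lineCent x) : e • x ∈ L.eig x f :=
  L.eig_eq_of_class hc ▸ L.orbit_mem_eig x he

/-- Components of different cosets are independent. -/
theorem Layer.eig_independent {x : V} (hx : x ≠ 0) {ι' : Type*} (r : ι' → G)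
    (hr : ∀ t, r t ∈ L.E) (hsep : ∀ t t', t ≠ t' → (r t')⁻¹ * r t ∉ L.lineCent x) :
    ∀ (s : Finset ι') (w : ι' → V), (∀ t ∈ s, w t ∈ L.eig x (r t)) → ∑ t ∈ s, w t = 0 →
      ∀ t ∈ s, w t = 0 := by
  classical
  intro s
  induction s using Finset.induction_on with
  | empty => intro w _ _ t ht; simp at ht
  | insert t₀ s ht₀ ih =>
    intro w hw hsum
    rw [Finset.sum_insert ht₀] at hsum
    have h0 : ∀ t ∈ s, w t = 0 := by
      intro t ht
      obtain ⟨a, ha, hne⟩ := L.exists_separating (hr t) (hr t₀)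
        (hsep t t₀ fun h => ht₀ (h ▸ ht))
      obtain ⟨k, hk⟩ := ha.2
      have hk0 : k ≠ 0 := fun h => hx (by rw [h, zero_smul, smul_eq_zero_iff_eq] at hk; exact hk)
      set c := fun u => L.chi a (r u) * k
      have hact : ∀ u ∈ insert t₀ s, a • w u = c u • w u := fun u hu => hw u hu a ha k hk
      have h1 : c t₀ • w t₀ + ∑ u ∈ s, c u • w u = 0 := by
        rw [← hact t₀ (Finset.mem_insert_self _ _),
          ← Finset.sum_congr rfl fun u hu => hact u (Finset.mem_insert_of_mem hu),
          ← Finset.smul_sum, ← smul_add, hsum, smul_zero]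
      have h2 : ∑ u ∈ s, (c u - c t₀) • w u = 0 := by
        simp only [sub_smul, Finset.sum_sub_distrib, ← Finset.smul_sum]
        have h3 : c t₀ • w t₀ = -(c t₀ • ∑ u ∈ s, w u) := by
          rw [eq_neg_iff_add_eq_zero, ← smul_add, hsum, smul_zero]
        rw [h3] at h1
        rw [← h1]
        abel
      have h4 := ih (fun u => (c u - c t₀) • w u)
        (fun u hu => Submodule.smul_mem _ _ (hw u (Finset.mem_insert_of_mem hu))) h2 t ht
      exact (smul_eq_zero.1 h4).resolve_left
        (sub_ne_zero.2 fun h => hne (mul_right_cancel₀ hk0 h))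
    intro t ht
    rcases Finset.mem_insert.1 ht with rfl | ht
    · rwa [Finset.sum_eq_zero h0, add_zero] at hsum
    · exact h0 t ht

end Cfsg.Agent.H86.BaseThree
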