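import Cfsg.Agent.H94.Base3.Colour

/-!
A colouring of a finite abelian group by three colours and a blank, preserved by no automorphism
but the identity, with all members and all products of two members of a generating set coloured.
-/

set_option autoImplicit false
set_option linter.unusedSectionVars false

namespace Cfsg.Agent.H86.BaseThree

open Cfsg.Agent.H94.Base3 (path_map)

universe u

variable {T : Type u} [CommGroup T] {n : ℕ}

/-- No member of the family lies in the subgroup generated by the others. -/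
def Irredundant (e : Fin n → T) : Prop :=
  ∀ k, e k ∉ Subgroup.closure (e '' {l | l ≠ k})

theorem exists_irredundant (T : Type u) [CommGroup T] [Finite T] :
    ∃ (n : ℕ) (e : Fin n → T), Subgroup.closure (Set.range e) = ⊤ ∧ Irredundant e := by
  classical
  haveI := Fintype.ofFinite T
  obtain ⟨s, hs, hmin⟩ := Finset.exists_min_image
    ((Finset.univ : Finset (Finset T)).filter fun s : Finset T => Subgroup.closure (s : Set T) = ⊤)
    Finset.card ⟨Finset.univ, Finset.mem_filter.2 ⟨Finset.mem_univ _, by simp⟩⟩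
  rw [Finset.mem_filter] at hs
  refine ⟨_, fun i => (s.equivFin.symm i).1, ?_, fun k hk => ?_⟩
  · rw [← hs.2]
    congr 1
    ext x
    exact ⟨fun ⟨i, hi⟩ => hi ▸ (s.equivFin.symm i).2, fun hx => ⟨s.equivFin ⟨x, hx⟩, by simp⟩⟩
  · set a := (s.equivFin.symm k).1 with ha
    have hsub : (fun i => (s.equivFin.symm i).1) '' {l | l ≠ k} ⊆ ((s.erase a : Finset T) : Set T) := by
      rintro _ ⟨l, hl, rfl⟩
      exact Finset.mem_erase.2 ⟨fun h => hl (s.equivFin.symm.injective (Subtype.ext h)),
        (s.equivFin.symm l).2⟩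
    have hae := Subgroup.closure_mono hsub hk
    have htop : Subgroup.closure ((s.erase a : Finset T) : Set T) = ⊤ := by
      rw [eq_top_iff, ← hs.2, Subgroup.closure_le]
      intro x hx
      by_cases hxa : x = a
      · rw [hxa]; exact hae
      · exact Subgroup.subset_closure (Finset.mem_erase.2 ⟨hxa, hx⟩)
    have h1 := hmin _ (Finset.mem_filter.2 ⟨Finset.mem_univ _, htop⟩)
    rw [Finset.card_erase_of_mem (s.equivFin.symm k).2] at h1
    have h2 := Finset.card_pos.2 ⟨a, (s.equivFin.symm k).2⟩
    omega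

variable {e : Fin n → T} (he : Irredundant e)
include he

/-- A hom forgetting all members but one. -/
theorem Irredundant.exists_hom (k : Fin n) :
    ∃ (Q : Type u) (_ : CommGroup Q) (f : T →* Q), f (e k) ≠ 1 ∧ ∀ l, l ≠ k → f (e l) = 1 :=
  ⟨T ⧸ Subgroup.closure (e '' {l | l ≠ k}), inferInstance, QuotientGroup.mk' _,
    fun h => he k ((QuotientGroup.eq_one_iff _).1 h),
    fun l hl => (QuotientGroup.eq_one_iff _).2 (Subgroup.subset_closure ⟨l, hl, rfl⟩)⟩

theorem Irredundant.injective : Function.Injective e := by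
  intro i j h
  by_contra hne
  exact he i (h ▸ Subgroup.subset_closure ⟨j, fun e' => hne e'.symm, rfl⟩)

theorem Irredundant.single_ne_pair (i p q : Fin n) (hpq : p ≠ q) : e i ≠ e p * e q := by
  intro h
  rcases eq_or_ne i p with rfl | hp
  · obtain ⟨Q, _, f, hk, hl⟩ := he.exists_hom q
    have := congrArg f h
    rw [map_mul, hl _ hpq, one_mul] at this
    exact hk this.symm
  · obtain ⟨Q, _, f, hk, hl⟩ := he.exists_hom p
    have := congrArg f h
    rw [map_mul, hl _ hp, hl _ hpq.symm, mul_one] at this
    exact hk this.symm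

theorem Irredundant.single_ne_triple (i p q r : Fin n) (hpq : p ≠ q) (hpr : p ≠ r)
    (hqr : q ≠ r) : e i ≠ e p * e q * e r := by
  intro h
  rcases eq_or_ne i p with rfl | hp
  · obtain ⟨Q, _, f, hk, hl⟩ := he.exists_hom q
    have := congrArg f h
    rw [map_mul, map_mul, hl _ hpq, hl _ hqr.symm, one_mul, mul_one] at this
    exact hk this.symm
  · obtain ⟨Q, _, f, hk, hl⟩ := he.exists_hom p
    have := congrArg f h
    rw [map_mul, map_mul, hl _ hp, hl _ hpq.symm, hl _ hpr.symm, mul_one, mul_one] at this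
    exact hk this.symm

theorem Irredundant.pair_eq {p q r s : Fin n} (hpq : p ≠ q) (h : e p * e q = e r * e s) :
    (p = r ∧ q = s) ∨ (p = s ∧ q = r) := by
  have key : ∀ a b : Fin n, a ≠ b → e a * e b = e r * e s → a = r ∨ a = s := by
    intro a b hab h
    by_contra hc
    push Not at hc
    obtain ⟨Q, _, f, hk, hl⟩ := he.exists_hom a
    have := congrArg f h
    rw [map_mul, map_mul, hl _ hc.1.symm, hl _ hc.2.symm, hl _ hab.symm, mul_one, mul_one] at this
    exact hk this
  rcases key p q hpq h with rfl | rfl <;> rcases key q _ hpq.symm (by rw [mul_comm, h]) with rfl | rfl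
  · exact absurd rfl hpq
  · exact Or.inl ⟨rfl, rfl⟩
  · exact Or.inr ⟨rfl, rfl⟩
  · exact absurd rfl hpq

theorem Irredundant.pair_ne_triple (p q a b c : Fin n) (hab : a ≠ b) (hac : a ≠ c) (hbc : b ≠ c) :
    e p * e q ≠ e a * e b * e c := by
  intro h
  have key : ∀ k l m : Fin n, k ≠ l → k ≠ m → e p * e q = e k * e l * e m → k = p ∨ k = q := by
    intro k l m hkl hkm h
    by_contra hc
    push Not at hc
    obtain ⟨Q, _, f, hk, hl⟩ := he.exists_hom k
    have := congrArg f h
    rw [map_mul, map_mul, map_mul, hl _ hc.1.symm, hl _ hc.2.symm, hl _ hkl.symm, hl _ hkm.symm,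
      mul_one, mul_one, mul_one] at this
    exact hk this.symm
  have ha := key a b c hab hac h
  have hb := key b a c hab.symm hbc (by rw [h]; ac_rfl)
  have hc := key c a b hac.symm hbc.symm (by rw [h]; ac_rfl)
  simp only [Fin.ext_iff, ne_eq] at ha hb hc hab hac hbc
  omega

theorem Irredundant.triple_eq {p q r a b c : Fin n} (hpq : p ≠ q) (hpr : p ≠ r)
    (h : e p * e q * e r = e a * e b * e c) : p = a ∨ p = b ∨ p = c := by
  by_contra hc
  push Not at hc
  obtain ⟨Q, _, f, hk, hl⟩ := he.exists_hom p
  have := congrArg f h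
  rw [map_mul, map_mul, map_mul, map_mul, hl _ hpq.symm, hl _ hpr.symm, hl _ hc.1.symm,
    hl _ hc.2.1.symm, hl _ hc.2.2.symm, mul_one, mul_one, mul_one, mul_one] at this
  exact hk this

theorem Irredundant.ne_one (i : Fin n) : e i ≠ 1 := fun h =>
  he i (h ▸ one_mem _)

theorem Irredundant.pair_ne_one (p q : Fin n) (hpq : p ≠ q) : e p * e q ≠ 1 := by
  intro h
  obtain ⟨Q, _, f, hk, hl⟩ := he.exists_hom p
  have := congrArg f h
  rw [map_mul, hl _ hpq.symm, mul_one, map_one] at this
  exact hk this

omit he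

theorem map_eq_of_gen {e : Fin n → T} (hgen : Subgroup.closure (Set.range e) = ⊤) (π : T ≃* T)
    (h : ∀ i, π (e i) = e i) (t : T) : π t = t :=
  DFunLike.congr_fun (MonoidHom.eq_of_eqOn_dense hgen (f := π.toMonoidHom) (g := MonoidHom.id T)
    (by rintro _ ⟨i, rfl⟩; exact h i)) t

/-- A colouring by three colours and a blank, preserved by no automorphism. -/
theorem exists_colouring (T : Type u) [CommGroup T] [Finite T] :
    ∃ (κ : T → Fin 4) (S : Finset T), Subgroup.closure (S : Set T) = ⊤ ∧ (∀ s ∈ S, κ s ≠ 0) ∧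
      (∀ s ∈ S, ∀ s' ∈ S, s * s' ≠ 1 → κ (s * s') ≠ 0) ∧
      ∀ π : T ≃* T, (∀ t, t ≠ 1 → κ (π t) = κ t) → ∀ t, π t = t := by
  classical
  obtain ⟨n, e, hgen, he⟩ := exists_irredundant T
  have hS : Subgroup.closure ((Finset.univ.image e : Finset T) : Set T) = ⊤ := by
    rw [Finset.coe_image, Finset.coe_univ, Set.image_univ, hgen]
  have fin3 : ∀ {m : ℕ} (i : Fin m), m = 3 → i.1 = 0 ∨ i.1 = 1 ∨ i.1 = 2 := fun i h => by
    have := i.2; omega
  rcases le_or_gt n 2 with hn | hn
  · -- at most two generators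
    let κ : T → Fin 4 := fun t => if ∃ i : Fin n, i.1 = 0 ∧ t = e i then 1
      else if ∃ i : Fin n, t = e i then 2 else 3
    have h0 : ∀ t, κ t ≠ 0 := fun t => by simp only [κ]; split_ifs <;> decide
    refine ⟨κ, Finset.univ.image e, hS, fun s _ => h0 s, fun s _ s' _ _ => h0 _, fun π hπ =>
      map_eq_of_gen hgen π fun i => ?_⟩
    have hi := hπ _ (he.ne_one i)
    by_cases h : i.1 = 0
    · rw [show κ (e i) = 1 from if_pos ⟨i, h, rfl⟩] at hi
      simp only [κ] at hi
      split_ifs at hi with c1 c2
      · obtain ⟨j, hj, hj'⟩ := c1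
        rw [hj', show j = i from Fin.ext (by omega)]
      all_goals exact absurd hi (by decide)
    · have hc : ¬ ∃ j : Fin n, j.1 = 0 ∧ e i = e j := fun ⟨j, hj, hj'⟩ => h (he.injective hj' ▸ hj)
      rw [show κ (e i) = 2 from (if_neg hc).trans (if_pos ⟨i, rfl⟩)] at hi
      simp only [κ] at hi
      split_ifs at hi with c1 c2
      · exact absurd hi (by decide)
      · obtain ⟨j, hj'⟩ := c2
        have hj0 : j.1 ≠ 0 := fun hj => c1 ⟨j, hj, hj'⟩
        have := i.2; have := j.2
        rw [hj', show j = i from Fin.ext (by omega)]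
      · exact absurd hi (by decide)
  rcases Nat.lt_or_ge n 4 with hn3 | hn4
  · -- three generators
    have hn' : n = 3 := by omega
    subst hn'
    let κ : T → Fin 4 := fun t => if t = e 1 ∨ t = e 2 then 1 else if t = e 0 * e 1 then 2
      else if t = e 0 ∨ ∃ p q : Fin 3, t = e p * e q then 3 else 0
    have h0 : ∀ t, (∃ i, t = e i) ∨ (∃ p q : Fin 3, t = e p * e q) → κ t ≠ 0 := by
      intro t ht
      simp only [κ]
      split_ifs with c1 c2 c3 <;> try decide
      exfalso
      rcases ht with ⟨i, rfl⟩ | h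
      · rcases fin3 i rfl with h | h | h
        · exact c3 (Or.inl (congrArg e (Fin.ext h)))
        · exact c1 (Or.inl (congrArg e (Fin.ext h)))
        · exact c1 (Or.inr (congrArg e (Fin.ext h)))
      · exact c3 (Or.inr h)
    refine ⟨κ, Finset.univ.image e, hS, ?_, ?_, fun π hπ => ?_⟩
    · intro s hs
      obtain ⟨i, -, rfl⟩ := Finset.mem_image.1 hs
      exact h0 _ (Or.inl ⟨i, rfl⟩)
    · intro s hs s' hs' _
      obtain ⟨i, -, rfl⟩ := Finset.mem_image.1 hs
      obtain ⟨j, -, rfl⟩ := Finset.mem_image.1 hs'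
      exact h0 _ (Or.inr ⟨i, j, rfl⟩)
    have g12 : ∀ i : Fin 3, (i = 1 ∨ i = 2) → π (e i) = e 1 ∨ π (e i) = e 2 := by
      intro i hi
      have h := hπ _ (he.ne_one i)
      rw [show κ (e i) = 1 from if_pos (hi.imp (congrArg e) (congrArg e))] at h
      simp only [κ] at h
      split_ifs at h with c1 c2 c3
      · exact c1
      all_goals exact absurd h (by decide)
    have g01 : π (e 0 * e 1) = e 0 * e 1 := by
      have h := hπ _ (he.pair_ne_one 0 1 (by decide))
      have hn1 : ¬ (e 0 * e 1 = e 1 ∨ e 0 * e 1 = e 2) := by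
        rintro (h | h) <;> exact he.single_ne_pair _ 0 1 (by decide) h.symm
      rw [show κ (e 0 * e 1) = 2 from (if_neg hn1).trans (if_pos rfl)] at h
      simp only [κ] at h
      split_ifs at h with c1 c2 c3
      · exact absurd h (by decide)
      · exact c2
      all_goals exact absurd h (by decide)
    have hne12 : π (e 1) ≠ π (e 2) := fun h => absurd (he.injective (π.injective h)) (by decide)
    rcases g12 1 (Or.inl rfl) with h1 | h1
    · have h2 : π (e 2) = e 2 := (g12 2 (Or.inr rfl)).resolve_left fun h => hne12 (h1.trans h.symm)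
      have h00 : π (e 0) = e 0 := by
        rw [map_mul, h1, mul_left_inj] at g01
        exact g01
      refine map_eq_of_gen hgen π fun i => ?_
      rcases fin3 i rfl with h | h | h
      · rw [show i = 0 from Fin.ext h]; exact h00
      · rw [show i = 1 from Fin.ext h]; exact h1
      · rw [show i = 2 from Fin.ext h]; exact h2
    · exfalso
      have h := hπ _ (he.ne_one 0)
      have hn1 : ¬ (e 0 = e 1 ∨ e 0 = e 2) := by
        rintro (h | h) <;> exact absurd (he.injective h) (by decide)
      rw [show κ (e 0) = 3 from (if_neg hn1).trans ((if_neg (he.single_ne_pair 0 0 1 (by decide))).trans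
        (if_pos (Or.inl rfl)))] at h
      have himg : π (e 0) * e 2 = e 0 * e 1 := by rw [← h1, ← map_mul, g01]
      simp only [κ] at h
      split_ifs at h with c1 c2 c3
      · exact absurd h (by decide)
      · exact absurd h (by decide)
      · rcases c3 with c3 | ⟨p, q, c3⟩
        · rw [c3, mul_right_inj] at himg
          exact absurd (he.injective himg) (by decide)
        · rw [c3] at himg
          obtain ⟨Q, _, f0, hf0, hl0⟩ := he.exists_hom 0
          obtain ⟨Q', _, f1, hf1, hl1⟩ := he.exists_hom 1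
          have e0 := congrArg f0 himg
          have e1 := congrArg f1 himg
          rw [map_mul, map_mul, map_mul, hl0 2 (by decide), hl0 1 (by decide), mul_one, mul_one] at e0
          rw [map_mul, map_mul, map_mul, hl1 2 (by decide), hl1 0 (by decide), mul_one, one_mul] at e1
          rcases eq_or_ne p 0 with rfl | hp <;> rcases eq_or_ne q 0 with rfl | hq
          · exact hf0 (mul_eq_right.1 e0)
          · rw [hl1 0 (by decide), one_mul] at e1
            have : q = 1 := by
              by_contra hq1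
              exact hf1 (e1.symm.trans (hl1 q hq1))
            subst this
            exact absurd (mul_eq_left.1 himg) (he.ne_one 2)
          · rw [hl1 0 (by decide), mul_one] at e1
            have : p = 1 := by
              by_contra hp1
              exact hf1 (e1.symm.trans (hl1 p hp1))
            subst this
            rw [mul_comm (e 1) (e 0)] at himg
            exact absurd (mul_eq_left.1 himg) (he.ne_one 2)
          · rw [hl0 p hp, hl0 q hq, one_mul] at e0
            exact hf0 e0.symm
      · exact absurd h (by decide)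
  -- at least four generators
  let i0 : Fin n := ⟨0, by omega⟩
  let i1 : Fin n := ⟨1, by omega⟩
  let i2 : Fin n := ⟨2, by omega⟩
  have h01 : i0 ≠ i1 := by simp [i0, i1]
  have h02 : i0 ≠ i2 := by simp [i0, i2]
  have h12 : i1 ≠ i2 := by simp [i1, i2]
  let D : T → Prop := fun t =>
    (∃ (i : Fin n) (h : i.1 + 1 < n), t = e i * e ⟨i.1 + 1, h⟩) ∨ t = e i0 * e i1 * e i2
  let κ : T → Fin 4 := fun t => if ∃ i, t = e i then 1 else if D t then 2
    else if ∃ p q : Fin n, t = e p * e q then 3 else 0
  have hadj : ∀ (i : Fin n) (h : i.1 + 1 < n), i ≠ ⟨i.1 + 1, h⟩ := fun i h e' => by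
    have := congrArg Fin.val e'
    simp at this
  have hD : ∀ t, D t → t ≠ 1 ∧ κ t = 2 := by
    intro t ht
    have hns : ¬ ∃ i, t = e i := by
      rintro ⟨j, rfl⟩
      rcases ht with ⟨i, h, hh⟩ | hh
      · exact he.single_ne_pair _ _ _ (hadj i h) hh
      · exact he.single_ne_triple _ _ _ _ h01 h02 h12 hh
    refine ⟨?_, (if_neg hns).trans (if_pos ht)⟩
    rcases ht with ⟨i, h, rfl⟩ | rfl
    · exact he.pair_ne_one _ _ (hadj i h)
    · intro h1
      obtain ⟨Q, _, f, hk, hl⟩ := he.exists_hom i0
      have := congrArg f h1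
      rw [map_mul, map_mul, hl _ h01.symm, hl _ h02.symm, mul_one, mul_one, map_one] at this
      exact hk this
  refine ⟨κ, Finset.univ.image e, hS, ?_, ?_, fun π hπ => ?_⟩
  · intro s hs
    obtain ⟨i, -, rfl⟩ := Finset.mem_image.1 hs
    rw [show κ (e i) = 1 from if_pos ⟨i, rfl⟩]
    decide
  · intro s hs s' hs' _
    obtain ⟨i, -, rfl⟩ := Finset.mem_image.1 hs
    obtain ⟨j, -, rfl⟩ := Finset.mem_image.1 hs'
    simp only [κ]
    split_ifs with c1 c2 c3 <;> first | decide | exact absurd ⟨i, j, rfl⟩ c3
  have hC : ∀ i, ∃ j, π (e i) = e j := by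
    intro i
    have h := hπ _ (he.ne_one i)
    rw [show κ (e i) = 1 from if_pos ⟨i, rfl⟩] at h
    simp only [κ] at h
    split_ifs at h with c1 c2 c3
    · exact c1
    all_goals exact absurd h (by decide)
  choose p hp using hC
  have pinj : Function.Injective p := fun i j h => he.injective (π.injective (by rw [hp, hp, h]))
  have hDπ : ∀ t, D t → D (π t) := by
    intro t ht
    have h := hπ t (hD t ht).1
    rw [(hD t ht).2] at h
    simp only [κ] at h
    split_ifs at h with c1 c2 c3
    · exact absurd h (by decide)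
    · exact c2
    all_goals exact absurd h (by decide)
  let p' : ℕ → ℕ := fun i => if h : i < n then (p ⟨i, h⟩).1 else i
  have hp' : ∀ (i : ℕ) (h : i < n), p' i = (p ⟨i, h⟩).1 := fun i h => dif_pos h
  have hstep : ∀ i, i + 1 < n → p' (i + 1) = p' i + 1 ∨ p' i = p' (i + 1) + 1 := by
    intro i hi
    rw [hp' i (by omega), hp' (i + 1) hi]
    have h := hDπ _ (Or.inl ⟨⟨i, by omega⟩, hi, rfl⟩)
    rw [map_mul, hp, hp] at h
    have hne : p ⟨i, by omega⟩ ≠ p ⟨i + 1, hi⟩ := fun h => hadj ⟨i, by omega⟩ hi (pinj h)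
    rcases h with ⟨j, hj, h⟩ | h
    · rcases he.pair_eq hne h with ⟨a, b⟩ | ⟨a, b⟩
      · left; rw [a, b]
      · right; rw [a, b]
    · exact absurd h (he.pair_ne_triple _ _ _ _ _ h01 h02 h12)
  rcases path_map p' (n := n) (fun i j hi hj h => by
      rw [hp' i hi, hp' j hj] at h
      exact congrArg Fin.val (pinj (Fin.ext h))) hstep with h | h
  · refine map_eq_of_gen hgen π fun i => ?_
    have hi := h i.1 i.2
    rw [hp' i.1 i.2] at hi
    have hend := h (n - 1) (by omega)
    rw [hp' (n - 1) (by omega)] at hend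
    have hlt := (p ⟨n - 1, by omega⟩).2
    have h0 : p' 0 = 0 := by omega
    rw [hp, show p i = i from Fin.ext (by
      show (p i).1 = i.1
      have : (p ⟨i.1, i.2⟩).1 = (p i).1 := rfl
      omega)]
  · exfalso
    have ht := hDπ _ (Or.inr rfl)
    rw [map_mul, map_mul, hp, hp, hp] at ht
    have v0 := h 0 (by omega)
    have vl := h (n - 1) (by omega)
    rw [hp' 0 (by omega)] at v0 vl
    rw [hp' (n - 1) (by omega)] at vl
    have hlt := (p i0).2
    rcases ht with ⟨j, hj, ht⟩ | ht
    · exact he.pair_ne_triple _ _ _ _ _ (pinj.ne h01) (pinj.ne h02) (pinj.ne h12) ht.symm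
    · have := he.triple_eq (pinj.ne h01) (pinj.ne h02) ht
      simp only [i0, i1, i2, Fin.ext_iff] at this hlt
      omega

end Cfsg.Agent.H86.BaseThree
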