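import Cfsg.Agent.H86.BaseThree.Pairing
import Mathlib.FieldTheory.Finite.Basic

/-!
A line with large stabiliser in a layer: the centraliser of its stabiliser acts on it either by
scalars, or through a quaternion plane.
-/

set_option autoImplicit false
set_option linter.unusedSectionVars false
set_option linter.style.haveILetI false

namespace Cfsg.Agent.H86.BaseThree

open Polynomial

universe u

variable {G : Type u} [Group G] [Finite G] {V : Type u} [AddCommGroup V] [DistribMulAction G V]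
  [Finite V] [Nontrivial V] [FaithfulSMul G V] {K : Type u} [Field K] [Finite K] [Module K V]

/-- The elements of the layer stabilising the line through a vector. -/
def Layer.lineStab (L : Layer G V K) (v : V) : Subgroup G where
  carrier := {e | e ∈ L.E ∧ ∃ k : K, e • v = k • v}
  one_mem' := ⟨one_mem _, 1, by rw [one_smul, one_smul]⟩
  mul_mem' := by
    rintro a b ⟨ha, k, hk⟩ ⟨hb, l, hl⟩
    exact ⟨mul_mem ha hb, l * k, by rw [mul_smul, hl, L.linear a ha, hk, smul_smul]⟩
  inv_mem' := by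
    rintro a ⟨ha, k, hk⟩
    refine ⟨inv_mem ha, k⁻¹, ?_⟩
    by_cases hk0 : k = 0
    · rw [hk0, zero_smul, smul_eq_zero_iff_eq] at hk
      rw [hk, smul_zero, smul_zero]
    · rw [inv_smul_eq_iff, L.linear a ha, hk, smul_smul, inv_mul_cancel₀ hk0, one_smul]

/-- The centraliser in the layer of a line stabiliser. -/
def Layer.lineCent (L : Layer G V K) (v : V) : Subgroup G :=
  L.E ⊓ Subgroup.centralizer (L.lineStab v : Set G)

theorem Layer.U_le_lineStab (L : Layer G V K) (v : V) : L.U ≤ L.lineStab v :=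
  fun u hu => ⟨L.U_le hu, L.ι ⟨u, hu⟩, L.smul_ι ⟨u, hu⟩ v⟩

theorem Layer.lineStab_le (L : Layer G V K) (v : V) : L.lineStab v ≤ L.E := fun _ h => h.1

theorem Layer.lineStab_comm (L : Layer G V K) {v : V} (hv : v ≠ 0) {a b : G}
    (ha : a ∈ L.lineStab v) (hb : b ∈ L.lineStab v) : a * b = b * a := by
  obtain ⟨hbE, l, hl⟩ := hb
  obtain ⟨haE, k, hk⟩ := ha
  let c : L.U := ⟨a * b * a⁻¹ * b⁻¹, L.commutator_mem a haE b hbE⟩
  have h1 : (c : G) • (b • a • v) = a • b • v := by
    show (a * b * a⁻¹ * b⁻¹) • (b • a • v) = _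
    simp [← mul_smul, mul_assoc]
  have h2 : a • b • v = b • a • v := by
    rw [hl, L.linear a haE, hk, L.linear b hbE, hl, smul_smul, smul_smul, mul_comm]
  rw [h2, L.smul_ι] at h1
  have hne : b • a • v ≠ 0 := fun h => hv (by rwa [smul_eq_zero_iff_eq, smul_eq_zero_iff_eq] at h)
  have hc : (L.ι c : K) = 1 := smul_left_injective K hne (by simpa using h1)
  have hc1 : c = 1 := L.ι_injective (by rw [map_one]; exact Units.ext hc)
  calc a * b = (c : G) * (b * a) := by show _ = a * b * a⁻¹ * b⁻¹ * (b * a); group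
    _ = b * a := by rw [hc1, Subgroup.coe_one, one_mul]

theorem Layer.lineStab_le_lineCent (L : Layer G V K) {v : V} (hv : v ≠ 0) :
    L.lineStab v ≤ L.lineCent v := fun a ha =>
  ⟨ha.1, Subgroup.mem_centralizer_iff.2 fun _ hb => L.lineStab_comm hv hb ha⟩

theorem Layer.commute_lineCent (L : Layer G V K) {v : V} {r a : G} (hr : r ∈ L.lineCent v)
    (ha : a ∈ L.lineStab v) : a * r = r * a :=
  Subgroup.mem_centralizer_iff.1 hr.2 a ha

/-- An element of prime order on a vector space with all roots of unity has an eigenvector. -/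
theorem exists_eigen (f : Module.End K V) (v : V) (hv : v ≠ 0) (W : Submodule K V) (hvW : v ∈ W)
    (hf : ∀ w ∈ W, f w ∈ W) (p : ℕ) (hp : 0 < p) {ζ : K} (hζ : IsPrimitiveRoot ζ p) (c : K)
    (hpow : ∀ w ∈ W, (f ^ p) w = c ^ p • w) :
    ∃ w ∈ W, w ≠ 0 ∧ ∃ k : K, f w = k • w := by
  by_contra hno
  push Not at hno
  have hfac : (X ^ p - Polynomial.C (c ^ p) : K[X]) =
      ∏ i ∈ Finset.range p, (X - Polynomial.C (ζ ^ i * c)) :=
    X_pow_sub_C_eq_prod hζ hp rfl
  have key : ∀ s : Finset ℕ, ∀ w ∈ W, w ≠ 0 →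
      aeval f (∏ i ∈ s, (X - Polynomial.C (ζ ^ i * c))) w ∈ W ∧
      aeval f (∏ i ∈ s, (X - Polynomial.C (ζ ^ i * c))) w ≠ 0 := by
    intro s
    induction s using Finset.induction_on with
    | empty => intro w hw hw0; simp [hw, hw0]
    | insert i s hi ih =>
      intro w hw hw0
      rw [Finset.prod_insert hi, map_mul]
      obtain ⟨h1, h2⟩ := ih w hw hw0
      set z := aeval f (∏ j ∈ s, (X - Polynomial.C (ζ ^ j * c))) w
      have hz : (aeval f (X - Polynomial.C (ζ ^ i * c))) z = f z - (ζ ^ i * c) • z := by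
        simp only [map_sub, aeval_X, aeval_C, LinearMap.sub_apply, Module.algebraMap_end_apply]
      refine ⟨?_, ?_⟩
      · rw [Module.End.mul_apply, hz]
        exact W.sub_mem (hf z h1) (W.smul_mem _ h1)
      · rw [Module.End.mul_apply, hz, Ne, sub_eq_zero]
        exact hno z h1 h2 _
  refine (key (Finset.range p) v hvW hv).2 ?_
  rw [← hfac, map_sub, map_pow, aeval_X, aeval_C, LinearMap.sub_apply, hpow v hvW,
    Module.algebraMap_end_apply, sub_self]

/-- A line as good as possible. -/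
structure Frame (L : Layer G V K) where
  x : V
  ne_zero : x ≠ 0
  split : (∀ r ∈ L.lineCent x, ∃ k : K, r • x = k • x) ∨
    ∃ r ∈ L.lineCent x, (∀ k : K, r • x ≠ k • x) ∧ r * r ∈ L.lineStab x ∧
      Nat.card K % 4 = 3 ∧ (∀ ρ ∈ L.lineCent x, ∃ k l : K, ρ • x = k • x + l • r • x) ∧
      (∀ ρ ∈ L.lineCent x, ρ * ρ ∈ L.lineStab x) ∧ (∀ c : K, r • r • x = c • x → ¬ IsSquare c) ∧
      ∀ ρ ∈ L.lineCent x, ∀ k l : K, ρ • (k • x + l • r • x) = k • x + l • r • x →
        k • x + l • r • x ≠ 0 → ρ • x = x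

theorem Layer.exists_frame (L : Layer G V K) : Nonempty (Frame L) := by
  classical
  haveI := Fintype.ofFinite V
  haveI := Fintype.ofFinite K
  obtain ⟨x, hxne, hxmax⟩ := Set.Finite.exists_maximalFor (fun v => Nat.card (L.lineStab v))
    ({v : V | v ≠ 0} : Set V) (Set.toFinite _) ((exists_ne (0 : V)).imp fun _ h => h)
  have hmax : ∀ v : V, v ≠ 0 → Nat.card (L.lineStab v) ≤ Nat.card (L.lineStab x) := by
    intro v hv
    rcases le_or_gt (Nat.card (L.lineStab v)) (Nat.card (L.lineStab x)) with h | h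
    · exact h
    · exact hxmax hv h.le
  set A := L.lineStab x with hA
  set R := L.lineCent x with hR
  have hAR : A ≤ R := L.lineStab_le_lineCent hxne
  -- the common eigenspace of the stabiliser
  let Z : Submodule K V :=
    { carrier := {w | ∀ a ∈ A, ∀ k : K, a • x = k • x → a • w = k • w}
      zero_mem' := fun a _ k _ => by rw [smul_zero, smul_zero]
      add_mem' := fun hw hz a ha k hk => by rw [smul_add, smul_add, hw a ha k hk, hz a ha k hk]
      smul_mem' := fun l w hw a ha k hk => by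
        rw [L.linear a ha.1, hw a ha k hk, smul_smul, smul_smul, mul_comm] }
  have hxZ : x ∈ Z := fun a _ k hk => hk
  have hZR : ∀ r ∈ R, ∀ w ∈ Z, r • w ∈ Z := fun r hr w hw a ha k hk => by
    rw [← mul_smul, L.commute_lineCent hr ha, mul_smul, hw a ha k hk, L.linear r hr.1]
  have hstab : ∀ w ∈ Z, w ≠ 0 → L.lineStab w = A := by
    intro w hw hw0
    refine (Subgroup.eq_of_le_of_card_ge ?_ (hmax w hw0)).symm
    rintro a ⟨haE, k, hk⟩
    exact ⟨haE, k, hw a ⟨haE, k, hk⟩ k hk⟩
  have hno : ∀ r ∈ R, r ∉ A → ∀ w ∈ Z, w ≠ 0 → ∀ k : K, r • w ≠ k • w := by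
    intro r hr hrA w hw hw0 k hk
    exact hrA (hstab w hw hw0 ▸ ⟨hr.1, k, hk⟩)
  by_cases hRA : R ≤ A
  · exact ⟨⟨x, hxne, Or.inl fun r hr => (hRA hr).2⟩⟩
  -- commutators act as scalars
  have hcm : ∀ r ∈ R, ∀ s ∈ R, ∃ c : Kˣ, ∀ v : V, r • s • v = (c : K) • s • r • v := by
    intro r hr s hs
    refine ⟨L.ι ⟨_, L.commutator_mem r hr.1 s hs.1⟩, fun v => ?_⟩
    rw [← L.smul_ι]
    simp [← mul_smul, mul_assoc]
  -- elements of the centre of the centraliser lie in the stabiliser
  have hnc : ∀ r ∈ R, r ∉ A → ∃ s ∈ R, ¬ s * r = r * s := by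
    intro r hr hrA
    by_contra hcon
    push Not at hcon
    exact hrA (L.mem_of_commute_centralizer (L.U_le_lineStab x) (L.lineStab_le x) hr.1
      fun s hs hsA => hcon s ⟨hs, Subgroup.mem_centralizer_iff.2 hsA⟩)
  have hsqf : ∀ r ∈ R, ∃ N : ℕ, Squarefree N ∧ r ^ N ∈ A := fun r hr => by
    obtain ⟨N, hN, hrN⟩ := L.squarefree r hr.1
    exact ⟨N, hN, L.U_le_lineStab x hrN⟩
  -- an element of prime order modulo the stabiliser
  have hprime : ∀ r ∈ R, r ∉ A → ∀ p : ℕ, p.Prime → r ^ p ∈ A →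
      (∃ ζ : K, IsPrimitiveRoot ζ p) ∧ ∃ s ∈ R, s ^ p ∈ A ∧ ¬ s * r = r * s := by
    intro r hr hrA p hp hrp
    obtain ⟨s, hs, hsr⟩ := hnc r hr hrA
    let c : L.U := ⟨s * r * s⁻¹ * r⁻¹, L.commutator_mem s hs.1 r hr.1⟩
    have hc1 : c ≠ 1 := fun h => hsr (by
      have := congrArg Subtype.val h
      calc s * r = s * r * s⁻¹ * r⁻¹ * (r * s) := by group
        _ = r * s := by rw [show s * r * s⁻¹ * r⁻¹ = 1 from this, one_mul])
    have hconj : s * r * s⁻¹ = (c : G) * r := by show _ = s * r * s⁻¹ * r⁻¹ * r; group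
    have hcr : Commute (c : G) r := L.commute_U c.2 hr.1
    have hcp : c ^ p = 1 := by
      refine Subtype.ext ?_
      have h1 : (s * r * s⁻¹) ^ p = r ^ p := by
        rw [conj_pow, ← L.commute_lineCent hs hrp, mul_inv_cancel_right]
      rw [hconj, hcr.mul_pow] at h1
      rw [Subgroup.coe_pow, Subgroup.coe_one]
      exact mul_eq_right.1 h1
    refine ⟨⟨(L.ι c : K), ?_⟩, ?_⟩
    · rw [IsPrimitiveRoot.coe_units_iff]
      haveI := Fact.mk hp
      have ho : orderOf (L.ι c) = p := by
        rw [orderOf_injective L.ι L.ι_injective]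
        exact orderOf_eq_prime hcp hc1
      exact IsPrimitiveRoot.iff_orderOf.2 ho
    · obtain ⟨N, hN, hsN⟩ := hsqf s hs
      -- powers of `s` outside of the centraliser of `r`
      have hpows : ∀ j : ℕ, s ^ j * r = (c : G) ^ j * r * s ^ j := by
        intro j
        induction j with
        | zero => simp
        | succ j ih =>
          calc s ^ (j + 1) * r = s * (s ^ j * r) := by rw [pow_succ', mul_assoc]
            _ = s * ((c : G) ^ j * r * s ^ j) := by rw [ih]
            _ = (c : G) ^ j * (s * r * s⁻¹) * (s * s ^ j) := by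
              have : s * (c : G) ^ j = (c : G) ^ j * s :=
                ((Commute.symm (L.commute_U c.2 hs.1)).pow_right j)
              rw [← mul_assoc, ← mul_assoc, this]
              group
            _ = (c : G) ^ (j + 1) * r * s ^ (j + 1) := by
              rw [hconj, ← pow_succ', ← mul_assoc, ← pow_succ]
      have hcj : ∀ j : ℕ, ¬ p ∣ j → ¬ s ^ j * r = r * s ^ j := by
        intro j hj heq
        rw [hpows] at heq
        have h1 : (c : G) ^ j = 1 := by
          rw [mul_assoc] at heq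
          exact mul_eq_right.1 heq
        rw [← Subgroup.coe_pow, OneMemClass.coe_eq_one] at h1
        haveI := Fact.mk hp
        exact hj (orderOf_eq_prime hcp hc1 ▸ orderOf_dvd_of_pow_eq_one h1)
      by_cases hpN : p ∣ N
      · obtain ⟨k, rfl⟩ := hpN
        refine ⟨s ^ k, R.pow_mem hs k, by rw [← pow_mul, mul_comm]; exact hsN, hcj k fun hk => ?_⟩
        obtain ⟨l, rfl⟩ := hk
        exact hp.one_lt.ne' (Nat.isUnit_iff.1 (hN p ⟨l, by ring⟩))
      · exact absurd (L.commute_lineCent hr hsN).symm (hcj N hpN ·.symm)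
  -- no eigenvalue: the `p`-th power is not a `p`-th power scalar
  have hnpow : ∀ r ∈ R, r ∉ A → ∀ (p : ℕ) (ζ : K), 0 < p → IsPrimitiveRoot ζ p → ∀ a c : K,
      r ^ p ∈ A → (r ^ p) • x = a • x → a ≠ c ^ p := by
    intro r hr hrA p ζ hp hζ a c hrp ha hac
    let f : Module.End K V :=
      { toFun := fun v => r • v
        map_add' := smul_add r
        map_smul' := fun k v => L.linear r hr.1 k v }
    have hfp : ∀ (j : ℕ) (v : V), (f ^ j) v = r ^ j • v := by
      intro j
      induction j with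
      | zero => intro v; simp
      | succ j ih =>
        intro v
        rw [pow_succ', Module.End.mul_apply, ih, pow_succ', mul_smul]
        rfl
    obtain ⟨w, hwZ, hw0, k, hk⟩ := exists_eigen f x hxne Z hxZ (fun w hw => hZR r hr w hw) p hp hζ c
      (fun w hw => by rw [hfp, hw _ hrp a ha, hac])
    exact hno r hr hrA w hwZ hw0 k hk
  -- every square lies in the stabiliser
  have hsq : ∀ r ∈ R, r * r ∈ A := by
    intro r hr
    by_contra hr2
    obtain ⟨N, hN, hrN⟩ := hsqf r hr
    have hex : ∃ n, 0 < n ∧ r ^ n ∈ A := ⟨N, Nat.pos_of_ne_zero hN.ne_zero, hrN⟩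
    obtain ⟨hn0, hnA⟩ := Nat.find_spec hex
    set n := Nat.find hex
    obtain ⟨p, hp, hpn, hp2⟩ : ∃ p, p.Prime ∧ p ∣ n ∧ p ≠ 2 := by
      by_contra h
      push Not at h
      have hnN : n ∣ N := by
        rw [Nat.dvd_iff_mod_eq_zero]
        by_contra hne
        refine Nat.find_min hex (Nat.mod_lt N hn0) ⟨Nat.pos_of_ne_zero hne, ?_⟩
        have := A.mul_mem (A.inv_mem (A.pow_mem hnA (N / n))) hrN
        have e : r ^ N = (r ^ n) ^ (N / n) * r ^ (N % n) := by
          rw [← pow_mul, ← pow_add, Nat.div_add_mod]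
        rwa [e, inv_mul_cancel_left] at this
      have hsqn : Squarefree n := hN.squarefree_of_dvd hnN
      have h12 : n ∣ 2 := by
        rcases eq_or_ne n 1 with h1 | h1
        · rw [h1]; exact one_dvd _
        · obtain ⟨p, hp, hpd⟩ := Nat.exists_prime_and_dvd h1
          obtain rfl := h p hp hpd
          obtain ⟨k, hk⟩ := hpd
          rcases eq_or_ne k 1 with hk1 | hk1
          · rw [hk, hk1]
          · obtain ⟨q, hq, hqk⟩ := Nat.exists_prime_and_dvd hk1
            obtain rfl := h q hq (hk ▸ Dvd.dvd.mul_left hqk 2)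
            obtain ⟨l, rfl⟩ := hqk
            exact absurd (Nat.isUnit_iff.1 (hsqn 2 ⟨l, by rw [hk]; ring⟩)) (by norm_num)
      obtain ⟨k, hk⟩ := h12
      refine hr2 ?_
      rw [← sq, hk, pow_mul]
      exact A.pow_mem hnA k
    -- an element of odd prime order
    set r' := r ^ (n / p) with hr'
    have hr'R : r' ∈ R := R.pow_mem hr _
    have hr'A : r' ∉ A := fun h => Nat.find_min hex
      (Nat.div_lt_self hn0 hp.one_lt) ⟨Nat.div_pos (Nat.le_of_dvd hn0 hpn) hp.pos, h⟩
    have hr'p : r' ^ p ∈ A := by rw [hr', ← pow_mul, Nat.div_mul_cancel hpn]; exact hnA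
    obtain ⟨⟨ζ, hζ⟩, s, hs, hsp, hsr⟩ := hprime r' hr'R hr'A p hp hr'p
    have hsA : s ∉ A := fun h => hsr (L.commute_lineCent hr'R h)
    obtain ⟨a, ha⟩ := hr'p.2
    obtain ⟨b, hb⟩ := hsp.2
    have hna := fun c => hnpow r' hr'R hr'A p ζ hp.pos hζ a c hr'p ha
    have ha0 : a ≠ 0 := fun h => hna 0 (by rw [h, zero_pow hp.ne_zero])
    have hb0 : b ≠ 0 := fun h => hnpow s hs hsA p ζ hp.pos hζ b 0 hsp hb
      (by rw [h, zero_pow hp.ne_zero])
    -- some product is a `p`-th power
    obtain ⟨i, c, hc⟩ : ∃ (i : ℕ) (c : K), a ^ i * b = c ^ p := by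
      obtain ⟨g, hg⟩ := IsCyclic.exists_generator (α := Kˣ)
      obtain ⟨α, hα⟩ := hg (Units.mk0 a ha0)
      obtain ⟨β, hβ⟩ := hg (Units.mk0 b hb0)
      have hαp : ¬ (p : ℤ) ∣ α := by
        rintro ⟨k, rfl⟩
        refine hna ((g ^ k : Kˣ) : K) ?_
        rw [← Units.val_pow_eq_pow_val, ← zpow_natCast, ← zpow_mul, mul_comm]
        exact (congrArg Units.val hα).symm
      obtain ⟨u, v, huv⟩ := (Nat.prime_iff_prime_int.1 hp).coprime_iff_not_dvd.2 hαp
      refine ⟨((-β * v) % p).toNat,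
        ((g ^ (((((-β * v) % p).toNat : ℕ) * α + β) / p) : Kˣ) : K), ?_⟩
      have hi : ((((-β * v) % p).toNat : ℕ) : ℤ) = (-β * v) % p :=
        Int.toNat_of_nonneg (Int.emod_nonneg _ (by exact_mod_cast hp.ne_zero))
      have hd : (p : ℤ) ∣ ((((-β * v) % p).toNat : ℕ) : ℤ) * α + β := by
        rw [hi]
        refine ⟨β * u - (-β * v) / p * α, ?_⟩
        have h2 := Int.mul_ediv_add_emod (-β * v) p
        linear_combination -β * huv + α * h2
      simp only at hα hβ
      rw [← Units.val_pow_eq_pow_val, ← zpow_natCast (g ^ _), ← zpow_mul, Int.ediv_mul_cancel hd,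
        zpow_add, zpow_mul', zpow_natCast, Units.val_mul, Units.val_pow_eq_pow_val, hα, hβ,
        Units.val_mk0, Units.val_mk0]
    -- the product of the two has a `p`-th power scalar
    set r'' := r' ^ i * s with hr''
    have hr''R : r'' ∈ R := R.mul_mem (R.pow_mem hr'R i) hs
    have hr''A : r'' ∉ A := by
      intro h
      refine hsr ?_
      have h1 : r'' * r' = r' * r'' := L.commute_lineCent hr'R h
      rw [hr'', mul_assoc, ← mul_assoc r', ← pow_succ', pow_succ, mul_assoc] at h1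
      exact mul_left_cancel h1
    obtain ⟨ε, hε⟩ := hcm s hs (r' ^ i) (R.pow_mem hr'R i)
    have hεp : (ε : K) ^ p = 1 := by
      have hstep : ∀ (j : ℕ) (v : V), s ^ j • r' ^ i • v = (ε : K) ^ j • r' ^ i • s ^ j • v := by
        intro j
        induction j with
        | zero => intro v; simp
        | succ j ih =>
          intro v
          rw [pow_succ', mul_smul, ih, L.linear s hs.1, hε, smul_smul, ← pow_succ, mul_smul]
      have h1 := hstep p x
      rw [← mul_smul, L.commute_lineCent (R.pow_mem hr'R i) hsp, mul_smul] at h1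
      have hne : r' ^ i • s ^ p • x ≠ 0 := fun h => hxne (by
        rwa [smul_eq_zero_iff_eq, smul_eq_zero_iff_eq] at h)
      exact smul_left_injective K hne (by simpa using h1.symm)
    have hodd : p ∣ p * (p - 1) / 2 := by
      have : 2 ∣ p - 1 := by
        have := hp.odd_of_ne_two hp2
        obtain ⟨k, rfl⟩ := this
        omega
      rw [Nat.mul_div_assoc _ this]
      exact dvd_mul_right _ _
    have hpowprod : ∀ (j : ℕ) (v : V), r'' ^ j • v =
        (ε : K) ^ (j * (j - 1) / 2) • (r' ^ i) ^ j • s ^ j • v := by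
      intro j
      induction j with
      | zero => intro v; simp
      | succ j ih =>
        intro v
        have hstep : ∀ (m : ℕ) (w : V),
            s • (r' ^ i) ^ m • w = (ε : K) ^ m • (r' ^ i) ^ m • s • w := by
          intro m
          induction m with
          | zero => intro w; simp
          | succ m ihm =>
            intro w
            rw [pow_succ' (r' ^ i), mul_smul, hε, ihm, L.linear _ (L.E.pow_mem hr'R.1 i), smul_smul,
              ← pow_succ', mul_smul]
        have hexp : (j + 1) * (j + 1 - 1) / 2 = j * (j - 1) / 2 + j := by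
          rcases Nat.eq_zero_or_pos j with rfl | hj
          · rfl
          · rw [show (j + 1) * (j + 1 - 1) = j * (j - 1) + j * 2 by
              obtain ⟨k, rfl⟩ := Nat.exists_eq_add_of_le hj
              simp only [Nat.add_sub_cancel, Nat.add_sub_cancel_left]
              ring, Nat.add_mul_div_right _ _ (by norm_num)]
        rw [pow_succ', mul_smul, ih, L.linear _ hr''R.1, hr'', mul_smul, hstep,
          L.linear _ (L.E.pow_mem hr'R.1 i), smul_smul, hexp, pow_add, pow_succ' (r' ^ i),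
          pow_succ' s]
        simp only [mul_smul]
    have hpowsc : ∀ m : ℕ, (r' ^ p) ^ m • x = a ^ m • x := by
      intro m
      induction m with
      | zero => simp
      | succ m ihm =>
        rw [pow_succ', mul_smul, ihm, L.linear _ (L.E.pow_mem hr'R.1 p), ha, smul_smul,
          ← pow_succ]
    have h1 : r'' ^ p • x = (a ^ i * b) • x := by
      obtain ⟨m, hm⟩ := hodd
      rw [hpowprod, hm, pow_mul, hεp, one_pow, one_smul, hb,
        L.linear _ (L.E.pow_mem (L.E.pow_mem hr'R.1 i) p), ← pow_mul, mul_comm i, pow_mul,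
        hpowsc, smul_smul, mul_comm]
    have hmem : r'' ^ p ∈ A := ⟨L.E.pow_mem hr''R.1 p, a ^ i * b, h1⟩
    obtain ⟨a'', ha''⟩ := hmem.2
    refine hnpow r'' hr''R hr''A p ζ hp.pos hζ a'' c hmem ha'' ?_
    rw [← hc]
    exact smul_left_injective K hxne (ha''.symm.trans h1)
  -- a quaternion plane
  obtain ⟨r, hr, hrA⟩ := SetLike.not_le_iff_exists.1 hRA
  obtain ⟨⟨ζ, hζ⟩, s, hs, -, hsr⟩ := hprime r hr hrA 2 Nat.prime_two (by rw [sq]; exact hsq r hr)
  have hsA : s ∉ A := fun h => hsr (L.commute_lineCent hr h)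
  have hζ1 : ζ = -1 := hζ.eq_neg_one_of_two_right
  have hchar : (-1 : K) ≠ 1 := hζ1 ▸ hζ.ne_one (by norm_num)
  have h20 : (2 : K) ≠ 0 := fun h => hchar (by linear_combination -h)
  have hodd : Fintype.card K % 2 = 1 := by
    refine FiniteField.odd_card_of_char_ne_two ?_
    intro h
    haveI := ringChar.of_eq h
    exact h20 (CharP.cast_eq_zero K 2)
  have hsign : ∀ t ∈ R, ∀ t' ∈ R, (∀ v : V, t • t' • v = t' • t • v) ∨
      ∀ v : V, t • t' • v = -(t' • t • v) := by
    intro t ht t' ht'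
    obtain ⟨c, hc⟩ := hcm t ht t' ht'
    have h2 : (c : K) * c = 1 := by
      have h1 : t • t • t' • x = t' • t • t • x := by
        rw [← mul_smul, ← mul_smul, ← mul_smul, ← mul_smul, mul_assoc, ← mul_assoc,
          L.commute_lineCent ht' (hsq t ht), mul_assoc]
      rw [hc x, L.linear t ht.1, hc, smul_smul] at h1
      have hne : t' • t • t • x ≠ 0 := fun h => hxne (by
        rwa [smul_eq_zero_iff_eq, smul_eq_zero_iff_eq, smul_eq_zero_iff_eq] at h)
      exact smul_left_injective K hne (by simpa using h1)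
    rcases mul_self_eq_one_iff.1 h2 with h | h
    · exact Or.inl fun v => by rw [hc, h, one_smul]
    · exact Or.inr fun v => by rw [hc, h, neg_one_smul]
  have hsr' : ∀ v : V, s • r • v = -(r • s • v) :=
    (hsign s hs r hr).resolve_left fun h =>
      hsr (eq_of_smul_eq_smul (α := V) fun v => by rw [mul_smul, mul_smul, h])
  have hns : ∀ t ∈ R, t ∉ A → ∀ a : K, t • t • x = a • x → ¬ IsSquare a := by
    intro t ht htA a ha hsqa
    obtain ⟨c, rfl⟩ := hsqa
    exact hnpow t ht htA 2 ζ two_pos hζ _ c (by rw [sq]; exact hsq t ht)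
      (by rw [sq, mul_smul]; exact ha) (sq c).symm
  obtain ⟨a, ha⟩ := (hsq r hr).2
  obtain ⟨b, hb⟩ := (hsq s hs).2
  rw [mul_smul] at ha hb
  have hprod : ∀ u v : K, ¬ IsSquare u → ¬ IsSquare v → IsSquare (u * v) := by
    intro u v hu hv
    have hu0 : u ≠ 0 := fun h => hu (h ▸ IsSquare.zero)
    have hv0 : v ≠ 0 := fun h => hv (h ▸ IsSquare.zero)
    obtain ⟨g, hg⟩ := IsCyclic.exists_generator (α := Kˣ)
    obtain ⟨α, hα⟩ := hg (Units.mk0 u hu0)
    obtain ⟨β, hβ⟩ := hg (Units.mk0 v hv0)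
    have hodd' : ∀ (w : K) (hw : w ≠ 0) (m : ℤ), g ^ m = Units.mk0 w hw → ¬ IsSquare w → Odd m := by
      intro w hw m hm hns'
      rw [← Int.not_even_iff_odd]
      rintro ⟨k, rfl⟩
      exact hns' ⟨((g ^ k : Kˣ) : K), by
        rw [← Units.val_mul, ← zpow_add]; exact (congrArg Units.val hm).symm⟩
    obtain ⟨k, hk⟩ := (hodd' u hu0 α hα hu).add_odd (hodd' v hv0 β hβ hv)
    refine ⟨((g ^ k : Kˣ) : K), ?_⟩
    simp only at hα hβ
    rw [← Units.val_mul, ← zpow_add, ← hk, zpow_add, Units.val_mul, hα, hβ, Units.val_mk0,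
      Units.val_mk0]
  have hab := hprod a b (hns r hr hrA a ha) (hns s hs hsA b hb)
  have hm1 : ¬ IsSquare (-1 : K) := by
    intro hsq1
    refine hns (r * s) (R.mul_mem hr hs) (fun h => hsr ?_) (-(a * b)) ?_ ?_
    · have h1 : r * s * r = r * (r * s) := L.commute_lineCent hr h
      rw [mul_assoc] at h1
      exact mul_left_cancel h1
    · simp only [mul_smul]
      rw [hsr', smul_neg, hb, L.linear r hr.1, L.linear r hr.1, ha, smul_smul, neg_smul, mul_comm]
    · obtain ⟨c, hc⟩ := hsq1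
      obtain ⟨d, hd⟩ := hab
      exact ⟨c * d, by rw [hd]; linear_combination d * d * hc⟩
  have hq4 : Nat.card K % 4 = 3 := by
    rw [Nat.card_eq_fintype_card]
    by_contra h
    exact hm1 (FiniteField.isSquare_neg_one_iff.2 h)
  -- the cosets of the centraliser
  have hcos : ∀ t ∈ R, t ∈ A ∨ r * t ∈ A ∨ s * t ∈ A ∨ r * (s * t) ∈ A := by
    intro t ht
    have key : ∀ u ∈ R, (∀ v : V, r • u • v = u • r • v) → (∀ v : V, s • u • v = u • s • v) →
        u ∈ A := by
      intro u hu hru hsu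
      by_contra huA
      obtain ⟨c, hc⟩ := (hsq u hu).2
      rw [mul_smul] at hc
      have hnot : r * u ∉ A := fun h => by
        have h1 : r * u * s = s * (r * u) := L.commute_lineCent hs h
        refine hchar ?_
        have h2 := congrArg (· • x) h1
        simp only [mul_smul] at h2
        rw [← hsu x, hsr'] at h2
        have hne : r • s • u • x ≠ 0 := fun h => hxne (by
          rwa [smul_eq_zero_iff_eq, smul_eq_zero_iff_eq, smul_eq_zero_iff_eq] at h)
        refine smul_left_injective K hne ?_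
        simpa [neg_one_smul] using h2.symm
      refine hns (r * u) (R.mul_mem hr hu) hnot (a * c) ?_ (hprod a c (hns r hr hrA a ha) (hns u hu huA c hc))
      simp only [mul_smul]
      rw [← hru, hc, L.linear r hr.1, L.linear r hr.1, ha, smul_comm]
    rcases hsign r hr t ht with h1 | h1 <;> rcases hsign s hs t ht with h2 | h2
    · exact Or.inl (key t ht h1 h2)
    · refine Or.inr (Or.inl (key _ (R.mul_mem hr ht) (fun v => ?_) fun v => ?_))
      · simp only [mul_smul]; rw [h1]
      · simp only [mul_smul]; rw [hsr', h2, smul_neg, neg_neg]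
    · refine Or.inr (Or.inr (Or.inl (key _ (R.mul_mem hs ht) (fun v => ?_) fun v => ?_)))
      · simp only [mul_smul]
        rw [show r • s • t • v = -(s • r • t • v) by rw [hsr', neg_neg], h1, smul_neg, neg_neg]
      · simp only [mul_smul]; rw [h2]
    · refine Or.inr (Or.inr (Or.inr (key _ (R.mul_mem hr (R.mul_mem hs ht)) (fun v => ?_) fun v => ?_)))
      · simp only [mul_smul]
        rw [show t • r • v = -(r • t • v) by rw [h1, neg_neg], smul_neg, hsr', neg_neg]
      · simp only [mul_smul]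
        rw [hsr', show t • s • v = -(s • t • v) by rw [h2, neg_neg], smul_neg, smul_neg]
  -- a vector on which the plane closes
  obtain ⟨k₀, l, hkl⟩ : ∃ k l : K, k * k = b + l * l * a := by
    have ha0 : a ≠ 0 := fun h => hns r hr hrA a ha (h ▸ IsSquare.zero)
    obtain ⟨k, l, hkl⟩ := FiniteField.exists_root_sum_quadratic
      (f := (X : K[X]) ^ 2) (g := Polynomial.C (-a) * X ^ 2 + Polynomial.C 0 * X + Polynomial.C (-b))
      (degree_X_pow 2) (degree_quadratic (neg_ne_zero.2 ha0)) hodd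
    simp at hkl
    exact ⟨k, l, by linear_combination hkl⟩
  obtain ⟨w, k, hwZ, hw0, hk2, hw⟩ : ∃ (w : V) (k : K),
      w ∈ Z ∧ w ≠ 0 ∧ k * k = b + l * l * a ∧ s • w = k • w + l • r • w := by
    have hZsq : ∀ t ∈ R, ∀ c : K, t • t • x = c • x → ∀ v ∈ Z, t • t • v = c • v := fun t ht c hc v hv => by
      rw [← mul_smul]
      exact hv _ (hsq t ht) c (by rw [mul_smul]; exact hc)
    have hN := hZsq s hs b hb x hxZ
    set z := s • x - l • r • x + k₀ • x with hz
    by_cases hz0 : z = 0
    · refine ⟨x, -k₀, hxZ, hxne, by rw [neg_mul_neg, hkl], ?_⟩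
      rw [neg_smul, ← sub_eq_zero, ← hz0, hz]
      abel
    · refine ⟨z, k₀, ?_, hz0, hkl, ?_⟩
      · exact Z.add_mem (Z.sub_mem (hZR s hs x hxZ) (Z.smul_mem _ (hZR r hr x hxZ))) (Z.smul_mem _ hxZ)
      · rw [hz]
        simp only [smul_add, smul_sub, L.linear s hs.1, L.linear r hr.1]
        rw [hb, hsr', ha]
        simp only [smul_neg, smul_smul]
        generalize (r * s) • x = e₁, r • x = e₂, s • x = e₃
        match_scalars <;> first | ring1 | linear_combination hkl | linear_combination -hkl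
  have hAw : L.lineStab w = A := hstab w hwZ hw0
  have hRw : L.lineCent w = R := by rw [Layer.lineCent, hAw]; rfl
  refine ⟨⟨w, hw0, Or.inr ⟨r, hRw ▸ hr, fun c => hno r hr hrA w hwZ hw0 c, hAw ▸ hsq r hr, hq4, ?_,
    fun ρ hρ => hAw ▸ hsq ρ (hRw ▸ hρ), fun c hc => ?_, fun ρ hρ k' l' hfix hne => ?_⟩⟩⟩
  rotate_left
  · have h : r • r • w = a • w := by
      rw [← mul_smul]; exact hwZ _ (hsq r hr) a (by rw [mul_smul]; exact ha)
    rw [smul_left_injective K hw0 (hc.symm.trans h)]
    exact hns r hr hrA a ha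
  · rw [hRw] at hρ
    set v := k' • w + l' • r • w with hv
    have hvZ : v ∈ Z := Z.add_mem (Z.smul_mem _ hwZ) (Z.smul_mem _ (hZR r hr w hwZ))
    have hρA : ρ ∈ A := by
      by_contra hρA
      exact hno ρ hρ hρA v hvZ hne 1 (by rw [hfix, one_smul])
    obtain ⟨c, hc⟩ := hρA.2
    have hc1 : c = 1 :=
      smul_left_injective K hne (show c • v = (1 : K) • v by
        rw [← hvZ ρ hρA c hc, hfix, one_smul])
    rw [hwZ ρ hρA c hc, hc1, one_smul]
  intro ρ hρ
  rw [hRw] at hρ
  have hAv : ∀ α ∈ A, ∀ v ∈ Z, ∃ c : K, α • v = c • v := by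
    intro α hα v hv
    obtain ⟨hαE, c, hc⟩ := hα
    exact ⟨c, hv α ⟨hαE, c, hc⟩ c hc⟩
  have hrr : ∀ v ∈ Z, r • r • v = a • v := fun v hv => by
    rw [← mul_smul]; exact hv _ (hsq r hr) a (by rw [mul_smul]; exact ha)
  have hss : ∀ v ∈ Z, s • s • v = b • v := fun v hv => by
    rw [← mul_smul]; exact hv _ (hsq s hs) b (by rw [mul_smul]; exact hb)
  have hspan : ∀ ρ' ∈ R, ∀ t ∈ A, ρ = ρ' * t →
      (∃ k l : K, ρ' • w = k • w + l • r • w) → ∃ k l : K, ρ • w = k • w + l • r • w := by
    rintro ρ' hρ' t ht rfl ⟨k', l', h'⟩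
    obtain ⟨c, hc⟩ := hAv t ht w hwZ
    exact ⟨c * k', c * l', by rw [mul_smul, hc, L.linear ρ' hρ'.1, h', smul_add, smul_smul, smul_smul]⟩
  rcases hcos ρ hρ with h | h | h | h
  · obtain ⟨c, hc⟩ := hAv ρ h w hwZ
    exact ⟨c, 0, by rw [hc, zero_smul, add_zero]⟩
  · refine hspan r⁻¹ (R.inv_mem hr) _ h (by group) ?_
    have ha0 : a ≠ 0 := fun h => hns r hr hrA a ha (h ▸ IsSquare.zero)
    refine ⟨0, a⁻¹, ?_⟩
    rw [zero_smul, zero_add, inv_smul_eq_iff, L.linear r hr.1, hrr w hwZ, smul_smul,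
      inv_mul_cancel₀ ha0, one_smul]
  · refine hspan s⁻¹ (R.inv_mem hs) _ h (by group) ?_
    have hb0 : b ≠ 0 := fun h => hns s hs hsA b hb (h ▸ IsSquare.zero)
    refine ⟨b⁻¹ * k, b⁻¹ * l, ?_⟩
    rw [inv_smul_eq_iff, smul_add, L.linear s hs.1, L.linear s hs.1, mul_smul, mul_smul, ← smul_add]
    conv_rhs => rw [show k • s • w + l • s • r • w = s • (k • w + l • r • w) by
      rw [smul_add, L.linear s hs.1, L.linear s hs.1], ← hw, hss w hwZ, smul_smul,
      inv_mul_cancel₀ hb0, one_smul]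
  · refine hspan (s⁻¹ * r⁻¹) (R.mul_mem (R.inv_mem hs) (R.inv_mem hr)) _ h (by group) ?_
    have ha0 : a ≠ 0 := fun h => hns r hr hrA a ha (h ▸ IsSquare.zero)
    have hb0 : b ≠ 0 := fun h => hns s hs hsA b hb (h ▸ IsSquare.zero)
    -- `r • s • w` lies in the plane
    refine ⟨(a * b)⁻¹ * -(l * a), (a * b)⁻¹ * -k, ?_⟩
    rw [mul_smul, inv_smul_eq_iff, inv_smul_eq_iff]
    simp only [smul_add, L.linear s hs.1, L.linear r hr.1]
    rw [hw, hsr' w, hw]
    simp only [smul_add, smul_neg, L.linear r hr.1, hrr w hwZ, smul_smul]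
    generalize r • w = e₂
    match_scalars <;> field_simp <;> first | ring1 | linear_combination hk2 | linear_combination -hk2

end Cfsg.Agent.H86.BaseThree
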