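import Cfsg.Agent.H52.RegPair.Semilinear
import Cfsg.Agent.H52.RegPair.Linear
import Mathlib.Algebra.Squarefree.Basic

/-!
The symplectic layer of a primitive solvable linear group: a normal subgroup between the scalars
and their centraliser which is self-centralising modulo the scalars.
-/

set_option autoImplicit false
set_option linter.unusedSectionVars false
set_option linter.style.haveILetI false

namespace Cfsg.Agent.H86.BaseThree

open Cfsg.Agent.H52.RegPair

universe u

variable {G : Type u} [Group G] {V : Type u} [AddCommGroup V] [DistribMulAction G V]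

/-- The scalars and the layer above them. -/
structure Layer (G : Type u) [Group G] (V : Type u) [AddCommGroup V] [DistribMulAction G V]
    (K : Type u) [Field K] [Module K V] where
  U : Subgroup G
  E : Subgroup G
  ι : U →* Kˣ
  σ : G → K →+* K
  smul_ι : ∀ (u : U) (v : V), (u : G) • v = (ι u : K) • v
  smul_σ : ∀ (g : G) (k : K) (v : V), g • (k • v) = σ g k • (g • v)
  E_normal : E.Normal
  U_le : U ≤ E
  linear : ∀ e ∈ E, ∀ (k : K) (v : V), e • (k • v) = k • (e • v)
  commutator_mem : ∀ x ∈ E, ∀ y ∈ E, x * y * x⁻¹ * y⁻¹ ∈ U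
  squarefree : ∀ x ∈ E, ∃ N : ℕ, Squarefree N ∧ x ^ N ∈ U
  center_le : ∀ x ∈ E, (∀ y ∈ E, x * y = y * x) → x ∈ U
  self_centralizing : ∀ g : G, (∀ y ∈ E, g * y = y * g) → g ∈ U
  maximal : ∀ N : Subgroup G, N.Normal → (∀ a ∈ N, ∀ b ∈ N, a * b = b * a) → U ≤ N → N ≤ U

theorem eq_of_smul_eq' [Nontrivial V] {K : Type u} [Field K] [Module K V] {k k' : K}
    (h : ∀ v : V, k • v = k' • v) : k = k' := by
  obtain ⟨v, hv⟩ := exists_ne (0 : V)
  exact smul_left_injective K hv (h v)

variable [Finite G] [Finite V] [Nontrivial V] [FaithfulSMul G V]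

/-- A primitive solvable linear group has a layer. -/
theorem exists_layer (hs : Group.IsSolvable G) (hirr : Irr G V) (hnim : ¬ Imprim G V) :
    ∃ (K : Type u) (_ : Field K) (_ : Module K V), Finite K ∧ Nonempty (Layer G V K) ∧
      (Nat.card K = 2 → Subsingleton G) := by
  classical
  obtain ⟨U, hUmem, hUmax⟩ := (Set.toFinite
    {U : Subgroup G | U.Normal ∧ ∀ a ∈ U, ∀ b ∈ U, a * b = b * a}).exists_maximal
    ⟨⊥, inferInstance, fun a ha b hb => by rw [Subgroup.mem_bot] at ha hb; rw [ha, hb]⟩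
  obtain ⟨hUn, hUab⟩ := hUmem
  haveI := hUn
  obtain ⟨K, fK, mK, hKfin, ⟨S⟩⟩ := exists_semiData hirr hnim U hUab
  letI := fK
  letI := mK
  haveI := hKfin
  have hι1 : ∀ x : U, S.ι x ≠ 0 := fun x h => by
    obtain ⟨v, hv⟩ := exists_ne (0 : V)
    have := S.smul_ι x v
    rw [h, zero_smul] at this
    exact hv (smul_eq_zero_iff_eq _ |>.1 this.symm)
  let ι : U →* Kˣ :=
    { toFun := fun x => Units.mk0 (S.ι x) (hι1 x)
      map_one' := Units.ext (eq_of_smul_eq' (V := V) fun v => by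
        show S.ι 1 • v = (1 : K) • v
        rw [S.smul_ι, one_smul]; exact one_smul G v)
      map_mul' := fun x y => Units.ext (eq_of_smul_eq' (V := V) fun v => by
        show S.ι (x * y) • v = (S.ι x * S.ι y) • v
        rw [mul_smul, S.smul_ι, S.smul_ι, S.smul_ι]; exact mul_smul (x : G) (y : G) v) }
  have hιv : ∀ (x : U) (v : V), (x : G) • v = (ι x : K) • v := fun x v => (S.smul_ι x v).symm
  let B : Subgroup G := Subgroup.centralizer (U : Set G)
  have hB : ∀ {g : G}, g ∈ B ↔ ∀ x ∈ U, x * g = g * x := fun {g} => Subgroup.mem_centralizer_iff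
  haveI : B.Normal := inferInstanceAs (Subgroup.centralizer (U : Set G)).Normal
  have hUB : U ≤ B := fun g hg => hB.2 fun x hx => hUab x hx g hg
  obtain ⟨E, hEmem, hEmax⟩ := (Set.toFinite {E : Subgroup G | E.Normal ∧ U ≤ E ∧ E ≤ B ∧
    (∀ x ∈ E, ∀ y ∈ E, x * y * x⁻¹ * y⁻¹ ∈ U) ∧
    ∀ x ∈ E, ∃ N : ℕ, Squarefree N ∧ x ^ N ∈ U}).exists_maximal
    ⟨U, hUn, le_rfl, hUB, fun x hx y hy => U.mul_mem (U.mul_mem (U.mul_mem hx hy) (U.inv_mem hx))
      (U.inv_mem hy), fun x hx => ⟨1, squarefree_one, by rwa [pow_one]⟩⟩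
  obtain ⟨hEn, hUE, hEB, hEc, hEsq⟩ := hEmem
  haveI := hEn
  have hZE : ∀ x ∈ E, (∀ y ∈ E, x * y = y * x) → x ∈ U := by
    let Z : Subgroup G := E ⊓ Subgroup.centralizer (E : Set G)
    have hZn : Z.Normal := inferInstance
    have hZab : ∀ a ∈ Z, ∀ b ∈ Z, a * b = b * a := fun a ha b hb =>
      Subgroup.mem_centralizer_iff.1 hb.2 a ha.1
    have hUZ : U ≤ Z := fun a ha => ⟨hUE ha, Subgroup.mem_centralizer_iff.2 fun y hy =>
      (hB.1 (hEB hy) a ha).symm⟩
    exact fun x hx h => hUmax ⟨hZn, hZab⟩ hUZ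
      ⟨hx, Subgroup.mem_centralizer_iff.2 fun y hy => (h y hy).symm⟩
  have hCBE : ∀ g : G, (∀ y ∈ E, g * y = y * g) → g ∈ U := by
    let C : Subgroup G := Subgroup.centralizer (E : Set G)
    haveI : C.Normal := inferInstanceAs (Subgroup.centralizer (E : Set G)).Normal
    suffices hCU : C ≤ U from fun g hg => hCU (Subgroup.mem_centralizer_iff.2 fun y hy => (hg y hy).symm)
    by_contra hCU
    have hUC : U ≤ C := fun a ha => Subgroup.mem_centralizer_iff.2 fun y hy =>
      (hB.1 (hEB hy) a ha).symm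
    obtain ⟨N, ⟨hNn, hUN, hNC, hNU⟩, hNmin⟩ := (Set.toFinite
      {N : Subgroup G | N.Normal ∧ U ≤ N ∧ N ≤ C ∧ ¬ N ≤ U}).exists_minimal
      ⟨C, inferInstance, hUC, le_rfl, hCU⟩
    haveI := hNn
    -- the commutators fall into the scalars
    have hNab : ⁅N, N⁆ ≤ U := by
      by_contra hne
      have hle : N ≤ ⁅N, N⁆ ⊔ U := hNmin ⟨inferInstance, le_sup_right,
        sup_le ((Subgroup.commutator_le_left N N).trans hNC) hUC,
        fun h => hne (le_trans le_sup_left h)⟩ (sup_le (Subgroup.commutator_le_left N N) hUN)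
      let π := QuotientGroup.mk' U
      have hπU : U.map π = ⊥ := by
        rw [Subgroup.map_eq_bot_iff, QuotientGroup.ker_mk']
      have hperf : N.map π ≤ ⁅N.map π, N.map π⁆ := by
        refine (Subgroup.map_mono hle).trans ?_
        rw [Subgroup.map_sup, hπU, sup_bot_eq, Subgroup.map_commutator]
      obtain ⟨d, hd⟩ := Group.IsSolvable.solvable (G := G ⧸ U)
      have hall : ∀ k, N.map π ≤ derivedSeries (G ⧸ U) k := by
        intro k
        induction k with
        | zero => exact le_top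
        | succ k ih =>
          rw [derivedSeries_succ]
          exact hperf.trans (Subgroup.commutator_mono ih ih)
      refine hNU fun x hx => ?_
      have := hall d ⟨x, hx, rfl⟩
      rw [hd, Subgroup.mem_bot] at this
      exact (QuotientGroup.eq_one_iff x).1 this
    obtain ⟨x, hxN, hxU⟩ : ∃ x ∈ N, x ∉ U := by
      by_contra h
      push Not at h
      exact hNU h
    have hNc : ∀ a ∈ N, ∀ b ∈ N, a * b * a⁻¹ * b⁻¹ ∈ U := fun a ha b hb =>
      hNab (Subgroup.commutator_mem_commutator ha hb)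
    -- an elementary abelian section
    let xbar : G ⧸ U := QuotientGroup.mk x
    have hx1 : xbar ≠ 1 := fun h => hxU ((QuotientGroup.eq_one_iff x).1 h)
    obtain ⟨p, hp, hpd⟩ := Nat.exists_prime_and_dvd (mt orderOf_eq_one_iff.1 hx1)
    let N1 : Subgroup G :=
      { carrier := {a | a ∈ N ∧ a ^ p ∈ U}
        one_mem' := ⟨one_mem _, by rw [one_pow]; exact one_mem _⟩
        mul_mem' := fun {a b} ha hb => ⟨mul_mem ha.1 hb.1, by
          rw [← QuotientGroup.eq_one_iff, QuotientGroup.mk_pow, QuotientGroup.mk_mul]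
          have hcomm : Commute (QuotientGroup.mk a : G ⧸ U) (QuotientGroup.mk b) := by
            have h := hNc a ha.1 b hb.1
            rw [← QuotientGroup.eq_one_iff, QuotientGroup.mk_mul, QuotientGroup.mk_mul,
              QuotientGroup.mk_mul, QuotientGroup.mk_inv, QuotientGroup.mk_inv] at h
            exact mul_inv_eq_one.1 (by rw [mul_inv_rev, ← mul_assoc]; exact h)
          rw [hcomm.mul_pow, ← QuotientGroup.mk_pow, ← QuotientGroup.mk_pow,
            (QuotientGroup.eq_one_iff _).2 ha.2, (QuotientGroup.eq_one_iff _).2 hb.2, one_mul]⟩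
        inv_mem' := fun {a} ha => ⟨inv_mem ha.1, by rw [inv_pow]; exact inv_mem ha.2⟩ }
    have hN1n : N1.Normal := ⟨fun a ha g => ⟨hNn.conj_mem a ha.1 g, by
      rw [conj_pow]; exact hUn.conj_mem _ ha.2 g⟩⟩
    have hUN1 : U ≤ N1 := fun a ha => ⟨hUN ha, U.pow_mem ha p⟩
    have hN1U : ¬ N1 ≤ U := by
      intro h
      have hmem : x ^ (orderOf xbar / p) ∈ N1 := by
        refine ⟨pow_mem hxN _, ?_⟩
        rw [← pow_mul, Nat.div_mul_cancel hpd, ← QuotientGroup.eq_one_iff, QuotientGroup.mk_pow]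
        exact pow_orderOf_eq_one xbar
      have h' := (QuotientGroup.eq_one_iff _).2 (h hmem)
      rw [QuotientGroup.mk_pow] at h'
      exact pow_ne_one_of_lt_orderOf
        (Nat.div_pos (Nat.le_of_dvd (orderOf_pos _) hpd) hp.pos).ne'
        (Nat.div_lt_self (orderOf_pos _) hp.one_lt) h'
    have hN1 : N ≤ N1 := hNmin ⟨hN1n, hUN1, fun a ha => hNC ha.1, hN1U⟩ (fun a ha => ha.1)
    -- join it to the layer
    have hcen : ∀ a ∈ E, ∀ d ∈ N, d * a = a * d := fun a ha d hd =>
      (Subgroup.mem_centralizer_iff.1 (hNC hd) a ha).symm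
    have hc' : ∀ z ∈ E ⊔ N, ∀ y ∈ E ⊔ N, z * y * z⁻¹ * y⁻¹ ∈ U := by
      intro z hz y hy
      obtain ⟨a, ha, d, hd, rfl⟩ := Subgroup.mem_sup_of_normal_left.1 hz
      obtain ⟨a', ha', d', hd', rfl⟩ := Subgroup.mem_sup_of_normal_left.1 hy
      have cda : d * a' = a' * d := hcen a' ha' d hd
      have cdd : (d * d' * d⁻¹) * a⁻¹ = a⁻¹ * (d * d' * d⁻¹) :=
        hcen _ (E.inv_mem ha) _ (N.mul_mem (N.mul_mem hd hd') (N.inv_mem hd))
      have cd2 : (d * d' * d⁻¹ * d'⁻¹) * a'⁻¹ = a'⁻¹ * (d * d' * d⁻¹ * d'⁻¹) :=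
        hcen _ (E.inv_mem ha') _
          (N.mul_mem (N.mul_mem (N.mul_mem hd hd') (N.inv_mem hd)) (N.inv_mem hd'))
      have : a * d * (a' * d') * (a * d)⁻¹ * (a' * d')⁻¹ =
          (a * a' * a⁻¹ * a'⁻¹) * (d * d' * d⁻¹ * d'⁻¹) := by
        calc a * d * (a' * d') * (a * d)⁻¹ * (a' * d')⁻¹
            = a * (d * a') * d' * d⁻¹ * a⁻¹ * d'⁻¹ * a'⁻¹ := by group
          _ = a * a' * ((d * d' * d⁻¹) * a⁻¹) * d'⁻¹ * a'⁻¹ := by rw [cda]; group
          _ = a * a' * a⁻¹ * ((d * d' * d⁻¹ * d'⁻¹) * a'⁻¹) := by rw [cdd]; group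
          _ = _ := by rw [cd2]; group
      rw [this]
      exact U.mul_mem (hEc a ha a' ha') (hNc d hd d' hd')
    have hsq' : ∀ z ∈ E ⊔ N, ∃ M : ℕ, Squarefree M ∧ z ^ M ∈ U := by
      intro z hz
      obtain ⟨a, ha, d, hd, rfl⟩ := Subgroup.mem_sup_of_normal_left.1 hz
      obtain ⟨M, hM, haM⟩ := hEsq a ha
      have hcomm : Commute a d := (hcen a ha d hd).symm
      have hdp : d ^ p ∈ U := (hN1 hd).2
      by_cases hpM : p ∣ M
      · obtain ⟨k, hk⟩ := hpM
        refine ⟨M, hM, ?_⟩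
        rw [hcomm.mul_pow]
        refine U.mul_mem haM ?_
        rw [hk, pow_mul]
        exact U.pow_mem hdp k
      · refine ⟨p * M, (Nat.squarefree_mul ((Nat.Prime.coprime_iff_not_dvd hp).2 hpM)).2
          ⟨hp.squarefree, hM⟩, ?_⟩
        rw [hcomm.mul_pow]
        refine U.mul_mem ?_ ?_
        · rw [mul_comm, pow_mul]; exact U.pow_mem haM p
        · rw [pow_mul]; exact U.pow_mem hdp M
    have hle : E ⊔ N ≤ E := hEmax ⟨inferInstance, le_sup_of_le_left hUE,
      sup_le hEB (fun d hd => hB.2 fun a ha => (hcen a (hUE ha) d hd).symm), hc', hsq'⟩ le_sup_left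
    exact hxU (hZE x (hle (le_sup_right (a := E) hxN)) fun y hy => hcen y hy x hxN)
  refine ⟨K, fK, mK, hKfin, ⟨{
    U := U
    E := E
    ι := ι
    σ := S.σ
    smul_ι := hιv
    smul_σ := S.smul_σ
    E_normal := hEn
    U_le := hUE
    linear := fun e he k v => by rw [S.smul_σ, S.σ_centralizer e (hEB he)]
    commutator_mem := hEc
    squarefree := hEsq
    center_le := hZE
    self_centralizing := hCBE
    maximal := fun N hN hab hle => hUmax ⟨hN, hab⟩ hle }⟩, fun h2 => ?_⟩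
  -- over two elements there are no scalars
  have hU : ∀ x ∈ U, x = 1 := fun x hx => by
    refine eq_of_smul_eq_smul (α := V) fun v => ?_
    have hu : (ι ⟨x, hx⟩ : Kˣ) = 1 := by
      have : Subsingleton Kˣ := (Nat.card_eq_one_iff_unique.1 (by rw [Nat.card_units, h2])).1
      exact Subsingleton.elim _ _
    rw [one_smul, show x • v = (ι ⟨x, hx⟩ : K) • v from hιv ⟨x, hx⟩ v, hu, Units.val_one, one_smul]
  by_contra hG
  rw [not_subsingleton_iff_nontrivial] at hG
  haveI := hs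
  obtain ⟨N, p, hNn, hN0, -, hNab, -⟩ := exists_normal_elementary (G := G)
  exact hN0 ((Subgroup.eq_bot_iff_forall _).2 fun x hx =>
    hU x (hUmax ⟨hNn, hNab⟩ (fun a ha => (hU a ha).symm ▸ one_mem N) hx))

end Cfsg.Agent.H86.BaseThree
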