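import Cfsg.Agent.H86.BaseThree.ZeroPart
import Cfsg.Agent.H86.BaseThree.Component
import Cfsg.Agent.H86.BaseThree.Colouring
import Cfsg.Agent.H86.BaseThree.Basic

/-!
Five triples with trivial stabilisers in different orbits for a primitive solvable linear group.
-/

set_option autoImplicit false
set_option linter.unusedSectionVars false
set_option linter.style.haveILetI false

namespace Cfsg.Agent.H86.BaseThree

open Cfsg.Agent.H52.RegPair

universe u

variable {G : Type u} [Group G] [Finite G] {V : Type u} [AddCommGroup V] [DistribMulAction G V]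
  [Finite V] [Nontrivial V] [FaithfulSMul G V] {K : Type u} [Field K] [Finite K] [Module K V]

/-- Five triples over a field with at least three elements. -/
theorem Layer.reg5 (L : Layer G V K) (hq : 3 ≤ Nat.card K) : Reg5 G V := by
  classical
  haveI := Fintype.ofFinite G
  obtain ⟨F⟩ := L.exists_frame
  obtain ⟨c, d, ρ, η, hρ, hη, hzero⟩ := Layer.exists_zero_part F hq
  set x := F.x with hxdef
  set A := L.lineStab x with hA
  set R := L.lineCent x with hR
  have hAR : A ≤ R := L.lineStab_le_lineCent F.ne_zero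
  have hUR : L.U ≤ R := (L.U_le_lineStab x).trans hAR
  haveI hEn := L.E_normal
  let RE : Subgroup L.E := R.subgroupOf L.E
  haveI : RE.Normal := ⟨fun t ht e => by
    rw [Subgroup.mem_subgroupOf] at ht ⊢
    have h := R.mul_mem (hUR (L.commutator_mem (e : G) e.2 (t : G) t.2)) ht
    rw [inv_mul_cancel_right] at h
    simpa using h⟩
  let T := L.E ⧸ RE
  letI : CommGroup T :=
    { (inferInstance : Group T) with
      mul_comm := fun a b => by
        induction a using QuotientGroup.induction_on with
        | _ p =>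
          induction b using QuotientGroup.induction_on with
          | _ q =>
            refine (QuotientGroup.eq).2 (Subgroup.mem_subgroupOf.2 (hUR ?_))
            have := L.commutator_mem _ (L.E.inv_mem q.2) _ (L.E.inv_mem p.2)
            simpa [mul_assoc] using this }
  haveI : Fintype T := Fintype.ofFinite T
  obtain ⟨κ, S, hS, hκS, hκSS, hκπ⟩ := exists_colouring T
  let rr : T → L.E := Quotient.out
  let r : T → G := fun t => rr t
  have hrr : ∀ t : T, QuotientGroup.mk (rr t) = t := fun t => QuotientGroup.out_eq' t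
  have hcls : ∀ p q : L.E, (QuotientGroup.mk p : T) = QuotientGroup.mk q →
      (q : G)⁻¹ * p ∈ R := fun p q h => by
    have := Subgroup.mem_subgroupOf.1 (QuotientGroup.eq.1 h.symm)
    simpa using this
  have hsep : ∀ t t' : T, t ≠ t' → (r t')⁻¹ * r t ∉ R := by
    intro t t' hne h
    refine hne ?_
    rw [← hrr t, ← hrr t']
    exact (QuotientGroup.eq.2 (Subgroup.mem_subgroupOf.2 (by simpa [r] using h))).symm
  have hr1 : r 1 ∈ R := by
    have := hcls (rr 1) 1 (by rw [hrr, QuotientGroup.mk_one])
    simpa [r] using this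
  -- the triples
  let α : Fin 4 → Bool := ![false, true, false, true]
  let β : Fin 4 → Bool := ![false, false, true, true]
  let w : (Fin 4 → Bool) → V → T → V := fun ε z t =>
    if t = 1 then z else if ε (κ t) then r t • x else 0
  let Y : (Fin 4 → Bool) → V → V := fun ε z => ∑ t : T, w ε z t
  refine ⟨fun i => ![x, Y α (c i • ρ i • x), Y β (d i • η i • x)], fun i j g h => ?_⟩
  have hg : g • x = x := h 0
  have hY1 : g • Y α (c i • ρ i • x) = Y α (c j • ρ j • x) := h 1
  have hY2 : g • Y β (d i • η i • x) = Y β (d j • η j • x) := h 2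
  have hginv : g⁻¹ • x = x := inv_smul_eq_iff.2 hg.symm
  have hconjx : ∀ e : G, (g * e * g⁻¹) • x = g • e • x := fun e => by
    rw [mul_smul, mul_smul, hginv]
  have hnA : ∀ g' : G, g' • x = x → ∀ a ∈ A, g' * a * g'⁻¹ ∈ A := by
    rintro g' hg' a ⟨haE, k, hk⟩
    refine ⟨L.E_normal.conj_mem a haE g', L.σ g' k, ?_⟩
    rw [mul_smul, mul_smul, inv_smul_eq_iff.2 hg'.symm, hk, L.smul_σ, hg']
  have hnR : ∀ g' : G, g' • x = x → ∀ t ∈ R, g' * t * g'⁻¹ ∈ R := by
    intro g' hg' t ht
    refine ⟨L.E_normal.conj_mem t ht.1 g', Subgroup.mem_centralizer_iff.2 fun a ha => ?_⟩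
    have h' : g'⁻¹ * a * g' ∈ A := by
      simpa using hnA g'⁻¹ (inv_smul_eq_iff.2 hg'.symm) a ha
    have hc := L.commute_lineCent ht h'
    calc a * (g' * t * g'⁻¹) = g' * (g'⁻¹ * a * g' * t) * g'⁻¹ := by group
      _ = g' * t * g'⁻¹ * a := by rw [hc]; group
  -- the action on the cosets
  let cg : L.E ≃* L.E := MulAut.conjNormal g
  have hcg : ∀ e : L.E, ((cg e : L.E) : G) = g * e * g⁻¹ := fun e => MulAut.conjNormal_apply g e
  have hmapRE : RE.map (cg : L.E →* L.E) = RE := by
    ext e
    simp only [Subgroup.mem_map, Subgroup.mem_subgroupOf, RE]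
    constructor
    · rintro ⟨e', he', rfl⟩
      have := hnR g hg _ he'
      simpa [hcg] using this
    · intro he
      refine ⟨cg.symm e, ?_, MulEquiv.apply_symm_apply _ _⟩
      have h1 := hnR g⁻¹ hginv _ he
      have h2 : ((cg.symm e : L.E) : G) = g⁻¹ * e * g := by
        have := hcg (cg.symm e)
        rw [MulEquiv.apply_symm_apply] at this
        rw [this]; group
      rw [h2]
      simpa using h1
  let π : T ≃* T := QuotientGroup.congr RE RE cg hmapRE
  have hπ : ∀ e : L.E, π (QuotientGroup.mk e) = QuotientGroup.mk (cg e) := fun e => rfl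
  have hπr : ∀ t : T, (r (π t))⁻¹ * (g * r t * g⁻¹) ∈ R := by
    intro t
    have := hcls (cg (rr t)) (rr (π t)) (by rw [← hπ, hrr, hrr])
    simpa [hcg, r] using this
  -- comparison of components
  have hz1 : ∀ (k : K) (t : G), t ∈ R → k • t • x ∈ L.eig x (r 1) := fun k t ht =>
    Submodule.smul_mem _ _ (L.orbit_mem_eig_of_class ht.1 (R.mul_mem (R.inv_mem hr1) ht))
  have hwmem : ∀ (ε : Fin 4 → Bool) (z : V), z ∈ L.eig x (r 1) → ∀ t, w ε z t ∈ L.eig x (r t) := by
    intro ε z hz t
    simp only [w]
    split_ifs with h1 h2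
    · rw [h1]; exact hz
    · exact L.orbit_mem_eig x (rr t).2
    · exact Submodule.zero_mem _
  have hcomp : ∀ (ε : Fin 4 → Bool) (k k' : K) (t t' : G), t ∈ R → t' ∈ R →
      g • Y ε (k • t • x) = Y ε (k' • t' • x) → g • (k • t • x) = k' • t' • x ∧
        ∀ s : T, s ≠ 1 → ε (κ s) = ε (κ (π s)) ∧
          (ε (κ s) = true → (g * r s * g⁻¹) • x = r (π s) • x) := by
    intro ε k k' t t' ht ht' hY
    set z := k • t • x with hz
    set z' := k' • t' • x with hz'
    have hgw : ∀ s : T, g • w ε z s ∈ L.eig x (r (π s)) := by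
      intro s
      simp only [w]
      split_ifs with h1 h2
      · subst h1
        rw [map_one, hz, L.smul_σ, ← hconjx]
        exact hz1 _ _ (hnR g hg t ht)
      · rw [← hconjx]
        exact L.orbit_mem_eig_of_class (L.E_normal.conj_mem _ (rr s).2 g) (hπr s)
      · rw [smul_zero]; exact Submodule.zero_mem _
    let D : T → V := fun s => g • w ε z (π.symm s) - w ε z' s
    have hsum : ∑ s : T, D s = 0 := by
      rw [Finset.sum_sub_distrib, sub_eq_zero]
      calc ∑ s : T, g • w ε z (π.symm s) = ∑ s : T, g • w ε z s :=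
            Equiv.sum_comp π.symm.toEquiv fun s => g • w ε z s
        _ = g • ∑ s : T, w ε z s := (Finset.smul_sum).symm
        _ = _ := hY
    have hD : ∀ s : T, g • w ε z s = w ε z' (π s) := by
      intro s
      have := L.eig_independent F.ne_zero r (fun t => (rr t).2) hsep Finset.univ D (fun s _ => ?_)
        hsum (π s) (Finset.mem_univ _)
      · simpa [D, sub_eq_zero] using this
      · refine Submodule.sub_mem _ ?_ (hwmem ε z' (hz1 k' t' ht') s)
        simpa using hgw (π.symm s)
    refine ⟨?_, fun s hs => ?_⟩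
    · have := hD 1
      simpa [w] using this
    · have hs' : π s ≠ 1 := fun h => hs (π.injective (h.trans (map_one π).symm))
      have hh := hD s
      have hne : ∀ e : G, e • x ≠ 0 := fun e => by
        rw [Ne, smul_eq_zero_iff_eq]; exact F.ne_zero
      simp only [w, hs, hs', if_false] at hh
      cases h1 : ε (κ s) <;> cases h2 : ε (κ (π s)) <;>
        simp only [h1, h2, Bool.false_eq_true, if_true, if_false, smul_zero] at hh
      · exact ⟨rfl, fun h => absurd h (by simp)⟩
      · exact absurd hh.symm (hne _)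
      · exact absurd hh (by rw [← mul_smul]; exact hne _)
      · exact ⟨rfl, fun _ => by rw [hconjx]; exact hh⟩
  obtain ⟨hz_1, hc1⟩ := hcomp α _ _ _ _ (hρ i) (hρ j) hY1
  obtain ⟨hz_2, hc2⟩ := hcomp β _ _ _ _ (hη i) (hη j) hY2
  obtain ⟨hij, hfixR⟩ := hzero g i j hg hz_1 hz_2
  have hπid : ∀ t, π t = t := by
    refine hκπ π fun t ht => ?_
    have h1 := (hc1 t ht).1
    have h2 := (hc2 t ht).1
    have key : ∀ a b : Fin 4, α a = α b → β a = β b → a = b := by simp only [α, β]; decide
    exact (key _ _ h1 h2).symm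
  -- elements moved trivially modulo the stabiliser
  let Fix : G → Prop := fun e => e ∈ L.E ∧ (g * e * g⁻¹) • x = e • x
  let dev : G → G := fun e => e⁻¹ * (g * e * g⁻¹)
  have hdev : ∀ e, Fix e → dev e ∈ A ∧ dev e • x = x := by
    rintro e ⟨he, hex⟩
    have hfx : dev e • x = x := by rw [mul_smul, hex, inv_smul_smul]
    exact ⟨⟨L.E.mul_mem (L.E.inv_mem he) (L.E_normal.conj_mem e he g), 1, by rw [one_smul, hfx]⟩,
      hfx⟩
  have hfixmul : ∀ e, Fix e → ∀ t ∈ R, Fix (e * t) := by
    intro e he t ht
    refine ⟨L.E.mul_mem he.1 ht.1, ?_⟩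
    obtain ⟨h1, h2⟩ := hdev e he
    have : g * (e * t) * g⁻¹ = e * dev e * (g * t * g⁻¹) := by simp only [dev]; group
    rw [this, mul_smul, hfixR t ht, ← mul_smul, mul_assoc, L.commute_lineCent ht h1, ← mul_assoc,
      mul_smul, h2]
  have hclass : ∀ e : L.E, ((QuotientGroup.mk e : T) = 1 ∨ κ (QuotientGroup.mk e) ≠ 0) →
      Fix e := by
    intro e he
    set u : T := QuotientGroup.mk e with hu
    have hru : Fix (r u) := by
      refine ⟨(rr u).2, ?_⟩
      by_cases hu1 : u = 1
      · rw [hu1]; exact hfixR _ hr1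
      · have key : ∀ a : Fin 4, a ≠ 0 → α a = true ∨ β a = true := by simp only [α, β]; decide
        rcases key _ (he.resolve_left hu1) with h | h
        · have := (hc1 u hu1).2 h
          rwa [hπid] at this
        · have := (hc2 u hu1).2 h
          rwa [hπid] at this
    have := hfixmul _ hru ((r u)⁻¹ * e) (hcls e (rr u) (by rw [hrr]))
    rwa [mul_inv_cancel_left] at this
  let Gen : Set L.E := {e | (QuotientGroup.mk e : T) = 1 ∨ (QuotientGroup.mk e : T) ∈ S}
  have hGen : Subgroup.closure Gen = ⊤ := by
    set H := Subgroup.closure Gen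
    have hmap : H.map (QuotientGroup.mk' RE) = ⊤ := by
      rw [eq_top_iff, ← hS, Subgroup.closure_le]
      intro s hs
      exact ⟨rr s, Subgroup.subset_closure (Or.inr (by rw [hrr]; exact hs)), hrr s⟩
    rw [eq_top_iff]
    intro e _
    obtain ⟨h', hh', he'⟩ : QuotientGroup.mk' RE e ∈ H.map (QuotientGroup.mk' RE) :=
      hmap ▸ Subgroup.mem_top _
    rw [← mul_inv_cancel_left h' e]
    refine H.mul_mem hh' (Subgroup.subset_closure (Or.inl ?_))
    rw [QuotientGroup.mk_mul, QuotientGroup.mk_inv]
    exact inv_mul_eq_one.2 he'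
  have hGenFix : ∀ e ∈ Gen, Fix (e : G) := fun e he =>
    hclass e (he.imp_right fun h => hκS _ h)
  have hcommute : ∀ e ∈ Gen, g * (e : G) = e * g := by
    intro e he
    obtain ⟨hdA, hdx⟩ := hdev e (hGenFix e he)
    have hgen : ∀ f ∈ Gen, dev e * (f : G) = f * dev e := by
      intro f hf
      refine L.commute_of_chi_eq_one hdA.1 f.2 ?_
      have hef : Fix ((e : G) * f) := by
        refine hclass (e * f) ?_
        rw [QuotientGroup.mk_mul]
        rcases he with he | he <;> rcases hf with hf | hf
        · left; rw [he, hf, one_mul]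
        · right; rw [he, one_mul]; exact hκS _ hf
        · right; rw [hf, mul_one]; exact hκS _ he
        · by_cases h1 : (QuotientGroup.mk e : T) * QuotientGroup.mk f = 1
          · exact Or.inl h1
          · exact Or.inr (hκSS _ he _ hf h1)
      have h1 : dev e • (f : G) • x = (f : G) • x := by
        have h2 := hef.2
        have h3 : g * ((e : G) * f) * g⁻¹ = e * dev e * (f * dev f) := by simp only [dev]; group
        rw [h3, mul_smul, mul_smul (f : G), (hdev f (hGenFix f hf)).2, mul_smul, mul_smul] at h2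
        refine smul_left_cancel (e : G) ?_
        simp only [dev, mul_smul] at h2 ⊢
        exact h2
      rw [L.chi_smul hdA.1 f.2, hdx] at h1
      have hne : (f : G) • x ≠ 0 := by rw [Ne, smul_eq_zero_iff_eq]; exact F.ne_zero
      exact smul_left_injective K hne (h1.trans (one_smul K _).symm)
    have hcen : ∀ y ∈ L.E, dev e * y = y * dev e := by
      suffices ∀ z : L.E, dev e * (z : G) = z * dev e from fun y hy => this ⟨y, hy⟩
      intro z
      have hmem : z ∈ Subgroup.closure Gen := hGen ▸ Subgroup.mem_top _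
      induction hmem using Subgroup.closure_induction with
      | mem z hz => exact hgen z hz
      | one => simp
      | mul a b _ _ ha hb => exact (Commute.mul_right ha hb : Commute (dev e) ((a : G) * b))
      | inv a _ ha => exact (Commute.inv_right ha : Commute (dev e) ((a : G)⁻¹))
    have hdU := L.center_le _ hdA.1 hcen
    have h1 : dev e = 1 := by
      have h2 := L.smul_ι ⟨_, hdU⟩ x
      rw [hdx] at h2
      have h3 : L.ι ⟨_, hdU⟩ = 1 :=
        Units.ext (smul_left_injective K F.ne_zero (h2.symm.trans (one_smul K x).symm))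
      exact congrArg Subtype.val ((map_eq_one_iff L.ι L.ι_injective).1 h3)
    calc g * (e : G) = e * dev e * g := by simp only [dev]; group
      _ = e * g := by rw [h1, mul_one]
  have hgU : g ∈ L.U := by
    suffices ∀ z : L.E, g * (z : G) = z * g from
      L.self_centralizing g fun y hy => this ⟨y, hy⟩
    intro z
    have hmem : z ∈ Subgroup.closure Gen := hGen ▸ Subgroup.mem_top _
    induction hmem using Subgroup.closure_induction with
    | mem z hz => exact hcommute z hz
    | one => simp
    | mul a b _ _ ha hb => exact (Commute.mul_right ha hb : Commute g ((a : G) * b))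
    | inv a _ ha => exact (Commute.inv_right ha : Commute g ((a : G)⁻¹))
  have hg1 : L.ι ⟨g, hgU⟩ = 1 := by
    have h2 := L.smul_ι ⟨g, hgU⟩ x
    rw [hg] at h2
    exact Units.ext (smul_left_injective K F.ne_zero (h2.symm.trans (one_smul K x).symm))
  refine ⟨hij, fun v => ?_⟩
  rw [show g • v = (L.ι ⟨g, hgU⟩ : K) • v from L.smul_ι ⟨g, hgU⟩ v, hg1, Units.val_one, one_smul]

/-- The step for primitive modules. -/
theorem primitiveStep : PrimitiveStep.{u} := by
  intro G _ _ V _ _ _ _ _ hs hirr hnim
  obtain ⟨K, fK, mK, hK, ⟨L⟩, h2⟩ := exists_layer hs hirr hnim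
  letI := fK
  letI := mK
  haveI := hK
  by_cases hq : 3 ≤ Nat.card K
  · exact L.reg5 hq
  have := h2 (le_antisymm (by omega) Finite.one_lt_card)
  haveI := Fintype.ofFinite V
  have hV : 2 ≤ Fintype.card V := Fintype.one_lt_card
  have hcard : Fintype.card (Fin 5) ≤ Fintype.card (Fin 3 → V) := by
    rw [Fintype.card_fun, Fintype.card_fin, Fintype.card_fin]
    calc 5 ≤ 2 ^ 3 := by norm_num
      _ ≤ _ := Nat.pow_le_pow_left hV 3
  obtain ⟨f⟩ := Function.Embedding.nonempty_of_card_le hcard
  refine ⟨f, fun i j g h => ⟨f.injective (funext fun k => ?_), fun v => ?_⟩⟩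
  · rw [← h k, Subsingleton.elim g 1, one_smul]
  · rw [Subsingleton.elim g 1, one_smul]

end Cfsg.Agent.H86.BaseThree
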