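import Cfsg.Agent.H86.BaseThree.Eigen

/-!
The parts of the five triples lying in the eigenspace of the chosen vector.
-/

set_option autoImplicit false
set_option linter.unusedSectionVars false
set_option linter.style.haveILetI false

namespace Cfsg.Agent.H86.BaseThree

universe u

variable {G : Type u} [Group G] [Finite G] {V : Type u} [AddCommGroup V] [DistribMulAction G V]
  [Finite V] [Nontrivial V] [FaithfulSMul G V] {K : Type u} [Field K] [Finite K] [Module K V]

theorem pattern_scalar {K : Type u} [Field K] {γ z : K} (h0 : γ ≠ 0) (h1 : γ ≠ 1) (z0 : z ≠ 0)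
    (z1 : z ≠ 1) (i j : Fin 5) (p : (![z, z, 0, 1, z] : Fin 5 → K) i = ![γ, γ, 0, 1, γ] j)
    (q : (![0, 1, z, z, z] : Fin 5 → K) i = ![0, 1, γ, γ, γ] j) : i = j ∧ z = γ := by
  have := h0.symm; have := h1.symm; have := z0.symm; have := z1.symm
  fin_cases i <;> fin_cases j <;> simp_all

/-- Five pairs in the eigenspace of a vector, told apart by the elements fixing the vector, and
fixed only by elements fixing all of the plane. -/
theorem Layer.exists_zero_part {L : Layer G V K} (F : Frame L) (hq : 3 ≤ Nat.card K) :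
    ∃ (c d : Fin 5 → K) (ρ η : Fin 5 → G), (∀ i, ρ i ∈ L.lineCent F.x) ∧
      (∀ i, η i ∈ L.lineCent F.x) ∧
      ∀ (g : G) (i j : Fin 5), g • F.x = F.x → g • (c i • ρ i • F.x) = c j • ρ j • F.x →
        g • (d i • η i • F.x) = d j • η j • F.x →
        i = j ∧ ∀ t ∈ L.lineCent F.x, (g * t * g⁻¹) • F.x = t • F.x := by
  classical
  haveI := Fintype.ofFinite K
  obtain ⟨u, hu⟩ := IsCyclic.exists_monoid_generator (α := Kˣ)
  set γ : K := (u : K) with hγ
  have hγ0 : γ ≠ 0 := u.ne_zero
  have hu1 : orderOf u = Nat.card Kˣ := orderOf_eq_card_of_forall_mem_powers hu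
  have hK : Nat.card Kˣ = Nat.card K - 1 := Nat.card_units K
  have hγ1 : γ ≠ 1 := by
    intro h
    have : u = 1 := Units.ext h
    rw [this, orderOf_one] at hu1
    omega
  have hσid : ∀ g : G, L.σ g γ = γ → ∀ k, L.σ g k = k := by
    intro g hg k
    rcases eq_or_ne k 0 with rfl | hk
    · exact map_zero _
    obtain ⟨m, hm⟩ := Submonoid.mem_powers_iff _ _ |>.1 (hu (Units.mk0 k hk))
    have : k = γ ^ m := by rw [hγ, ← Units.val_pow_eq_pow_val, hm, Units.val_mk0]
    rw [this, map_pow, hg]
  set x := F.x with hxdef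
  have hx : Function.Injective (fun k : K => k • x) := smul_left_injective K F.ne_zero
  have hinv : ∀ g : G, g • x = x → g⁻¹ • x = x := fun g h => inv_smul_eq_iff.2 h.symm
  have hconj : ∀ g : G, g • x = x → ∀ t : G, (g * t * g⁻¹) • x = g • t • x := fun g h t => by
    rw [mul_smul, mul_smul, hinv g h]
  have hσne : ∀ g : G, L.σ g γ ≠ 0 ∧ L.σ g γ ≠ 1 := fun g =>
    ⟨fun h => hγ0 ((L.σ g).injective (h.trans (map_zero _).symm)),
      fun h => hγ1 ((L.σ g).injective (h.trans (map_one _).symm))⟩
  rcases F.split with hsc | ⟨r, hr, hry, hrr, hq4, hplane, -, -, -⟩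
  · refine ⟨![γ, γ, 0, 1, γ], ![0, 1, γ, γ, γ], fun _ => 1, fun _ => 1, fun _ => one_mem _,
      fun _ => one_mem _, fun g i j hg h1 h2 => ?_⟩
    rw [one_smul G, L.smul_σ, hg] at h1 h2
    replace h1 := hx h1
    replace h2 := hx h2
    obtain ⟨hne0, hne1⟩ := hσne g
    have key : i = j ∧ L.σ g γ = γ := by
      refine pattern_scalar hγ0 hγ1 hne0 hne1 i j ?_ ?_
      · rw [← h1]; fin_cases i <;> simp
      · rw [← h2]; fin_cases i <;> simp
    refine ⟨key.1, fun t ht => ?_⟩
    obtain ⟨k, hk⟩ := hsc t ht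
    rw [hconj g hg, hk, L.smul_σ, hg, hσid g key.2]
  set y := r • x with hy
  have hY : ∀ g : G, g • x = x → ∀ k : K, g • y ≠ k • x := by
    intro g hg k h
    refine hry (L.σ g⁻¹ k) ?_
    have := congrArg (g⁻¹ • ·) h
    simpa [L.smul_σ, hinv g hg] using this
  have hfin : ∀ g : G, g • x = x → L.σ g γ = γ → g • y = y →
      ∀ t ∈ L.lineCent x, (g * t * g⁻¹) • x = t • x := by
    intro g hg hσ hgy t ht
    obtain ⟨k, l, hkl⟩ := hplane t ht
    rw [hconj g hg, hkl, smul_add, L.smul_σ, L.smul_σ, hg, hσid g hσ, hσid g hσ, hgy]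
  by_cases h3 : Nat.card K = 3
  · -- three elements: no field automorphisms
    have hall : ∀ k : K, k = 0 ∨ k = 1 ∨ k = γ := by
      have h : ({0, 1, γ} : Finset K) = Finset.univ := by
        refine Finset.eq_univ_of_card _ ?_
        rw [← Nat.card_eq_fintype_card, h3, Finset.card_eq_three]
        exact ⟨0, 1, γ, zero_ne_one, hγ0.symm, hγ1.symm, rfl⟩
      intro k
      simpa using (h ▸ Finset.mem_univ k : k ∈ ({0, 1, γ} : Finset K))
    have hσ : ∀ g : G, L.σ g γ = γ := fun g =>
      ((hall _).resolve_left (hσne g).1).resolve_left (hσne g).2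
    -- `none` stands for `r • x`
    let P : Fin 5 → Option (Fin 3) := ![some 0, some 2, some 1, none, none]
    let Q : Fin 5 → Option (Fin 3) := ![none, none, none, some 0, some 1]
    let val : Fin 3 → K := ![0, 1, γ]
    have hval : Function.Injective val := by
      intro k k' h
      have := hγ0.symm
      have := hγ1.symm
      fin_cases k <;> fin_cases k' <;> first | rfl | simp_all [val]
    let cf : Option (Fin 3) → K := fun o => o.elim 1 val
    let el : Option (Fin 3) → G := fun o => if o = none then r else 1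
    have hel : ∀ o, el o ∈ L.lineCent x := fun o => by
      simp only [el]; split_ifs
      · exact hr
      · exact one_mem _
    refine ⟨fun i => cf (P i), fun i => cf (Q i), fun i => el (P i), fun i => el (Q i),
      fun i => hel _, fun i => hel _, fun g i j hg h1 h2 => ?_⟩
    have hdec : ∀ o o' : Option (Fin 3), g • (cf o • el o • x) = cf o' • el o' • x →
        o = o' ∧ (o = none → g • y = y) := by
      intro o o' h
      rcases o with _ | k <;> rcases o' with _ | k' <;>
        simp only [cf, el, reduceCtorEq, if_false, if_true, Option.elim_none, Option.elim_some,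
          one_smul G x, L.smul_σ, hσid g (hσ g), one_smul K, hg, ← hy] at h
      · exact ⟨rfl, fun _ => h⟩
      · exact absurd h (hY g hg _)
      · exact absurd h.symm (hry _)
      · rw [hval (hx h)]; exact ⟨rfl, fun h => absurd h (by simp)⟩
    obtain ⟨e1, f1⟩ := hdec _ _ h1
    obtain ⟨e2, f2⟩ := hdec _ _ h2
    have htable : ∀ i j : Fin 5, P i = P j → Q i = Q j → i = j := by simp only [P, Q]; decide
    have hsome : ∀ i : Fin 5, P i = none ∨ Q i = none := by simp only [P, Q]; decide
    exact ⟨htable i j e1 e2, hfin g hg (hσ g) ((hsome i).elim f1 f2)⟩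
  -- at least seven elements
  have h7 : 7 ≤ Nat.card K := by omega
  let b : Fin 5 → Bool := ![true, false, true, false, true]
  let m : Fin 5 → ℕ := ![0, 0, 1, 1, 2]
  refine ⟨fun i => if b i then γ else γ ^ m i, fun i => if b i then γ ^ m i else γ,
    fun i => if b i then 1 else r, fun i => if b i then r else 1,
    fun i => ?_, fun i => ?_, fun g i j hg h1 h2 => ?_⟩
  · dsimp only; split_ifs
    · exact one_mem _
    · exact hr
  · dsimp only; split_ifs
    · exact hr
    · exact one_mem _
  have hbb : b i = b j := by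
    cases hi : b i <;> cases hj : b j <;>
      simp only [hi, hj, Bool.false_eq_true, if_true, if_false, one_smul G x, ← hy, L.smul_σ, hg]
        at h1 h2
    · rfl
    · exfalso
      refine hY g hg (((L.σ g) (γ ^ m i))⁻¹ * γ) ?_
      rw [← smul_smul, ← h1, inv_smul_smul₀ (fun h => pow_ne_zero _ hγ0
        ((L.σ g).injective (h.trans (map_zero _).symm)))]
    · exfalso
      refine hY g hg (((L.σ g) (γ ^ m i))⁻¹ * γ) ?_
      rw [← smul_smul, ← h2, inv_smul_smul₀ (fun h => pow_ne_zero _ hγ0
        ((L.σ g).injective (h.trans (map_zero _).symm)))]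
    · rfl
  obtain ⟨hσ, hmy⟩ : L.σ g γ = γ ∧ γ ^ m i • (g • y) = γ ^ m j • y := by
    cases hi : b i <;>
      simp only [hi, ← hbb, Bool.false_eq_true, if_true, if_false, one_smul G x, ← hy, L.smul_σ, hg]
        at h1 h2
    · have h := hx h2
      refine ⟨h, ?_⟩
      rwa [hσid g h] at h1
    · have h := hx h1
      refine ⟨h, ?_⟩
      rwa [hσid g h] at h2
  set l : K := (γ ^ m i)⁻¹ * γ ^ m j with hl
  have hgy : g • y = l • y := by
    rw [hl, ← smul_smul, ← hmy, inv_smul_smul₀ (pow_ne_zero _ hγ0)]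
  obtain ⟨a, ha⟩ := hrr.2
  have hl2 : l * l = 1 := by
    set r' := g * r * g⁻¹ with hr'
    have hr'x : r' • x = l • y := by rw [hr', hconj g hg, ← hy, hgy]
    have hα : r⁻¹ * r' ∈ L.lineStab x := by
      refine ⟨L.E.mul_mem (L.E.inv_mem hr.1) (L.E_normal.conj_mem r hr.1 g), l, ?_⟩
      rw [mul_smul, hr'x, hy, L.linear r⁻¹ (L.E.inv_mem hr.1), inv_smul_smul]
    have hαx : (r⁻¹ * r') • x = l • x := by
      rw [mul_smul, hr'x, hy, L.linear r⁻¹ (L.E.inv_mem hr.1), inv_smul_smul]
    have h1' : r' • y = (l * a) • x := by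
      rw [show r' = r * (r⁻¹ * r') by group, hy, ← mul_smul, mul_assoc,
        L.commute_lineCent hr hα, ← mul_assoc, mul_smul, hαx,
        L.linear _ (L.E.mul_mem hr.1 hr.1), ha, smul_smul]
    have h2' : a • x = (l * (l * a)) • x := by
      calc a • x = g • (a • x) := by rw [L.smul_σ, hσid g hσ, hg]
        _ = g • r • r • x := by rw [← mul_smul r r, ha]
        _ = r' • g • r • x := by rw [hr']; simp [← mul_smul, mul_assoc]
        _ = r' • (l • y) := by rw [← hy, hgy]
        _ = l • r' • y := L.linear r' (L.E_normal.conj_mem r hr.1 g) l y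
        _ = _ := by rw [h1', smul_smul]
    have ha0 : a ≠ 0 := by
      intro h
      rw [h, zero_smul, smul_eq_zero_iff_eq] at ha
      exact F.ne_zero ha
    exact mul_right_cancel₀ ha0 (by rw [one_mul, mul_assoc]; exact (hx h2').symm)
  have hm : m i = m j := by
    have hpow : u ^ (2 * m j) = u ^ (2 * m i) := by
      refine Units.ext ?_
      push_cast
      rw [hl] at hl2
      field_simp at hl2
      rw [← hγ, pow_mul', pow_mul', hl2]
    have hb : ∀ k, m k ≤ 2 := fun k => by fin_cases k <;> simp [m]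
    have h4 : ∀ k, 2 * m k < orderOf u := fun k => by
      rw [hu1, hK]; have := hb k; omega
    have := pow_injOn_Iio_orderOf (Set.mem_Iio.2 (h4 j)) (Set.mem_Iio.2 (h4 i)) hpow
    omega
  have hij : i = j := by
    revert hbb hm
    fin_cases i <;> fin_cases j <;> simp [b, m]
  refine ⟨hij, hfin g hg hσ ?_⟩
  rw [hgy, hl, hm, inv_mul_cancel₀ (pow_ne_zero _ hγ0), one_smul]

end Cfsg.Agent.H86.BaseThree
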